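import Cfsg.Agent.H808.RV.FMain
import Cfsg.Agent.H167.EX.OneFin

/-!
# The centraliser of `h_s(-1)` normalises the root `SL₂`, locally finite fields (helper550, box R3 of TEAM RV)

* `emb_ph` : `ph` and field extensions;
* `cent_norm_lf` : `g` commutes with `h_s(-1)` ⟹ `g` normalises `ph (SL₂(k))` (from helper808's `cent_norm` in a finite level).
-/

set_option autoImplicit false
set_option linter.unusedSectionVars false

namespace Cfsg.Agent.H550.RX

open CoxeterSystem Cfsg Cfsg.Lie Cfsg.Lie.ChevalleyDatum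
open Cfsg.Agent.ChevalleyStructure Cfsg.Agent.ChevalleyStructure.Elts Cfsg.Agent.ChevalleyStructure.CoxeterGeom
  Cfsg.Agent.ChevalleyStructure.CoxeterGeomTypes Cfsg.Agent.ChevalleyStructure.NPerm
open Cfsg.Agent.Tits.Roots Cfsg.Agent.Tits.Core Cfsg.Agent.Nodes Cfsg.Agent.Nodes.Reps Cfsg.Agent.Nodes.BNOf
  Cfsg.Agent.Nodes.RGDChev Cfsg.Agent.Nodes.Bruhat Cfsg.Agent.Nodes.NormalForm
open Cfsg.Agent.KFacts.RgdField Cfsg.Agent.KFacts.RgdChevCoord
open Cfsg.Agent.BpExc Cfsg.Agent.BpExc.TorCent Cfsg.Agent.BpExc.TorChev Cfsg.Agent.BpExc.Tow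
  Cfsg.Agent.BpExc.TowChev Cfsg.Agent.BpExc.Fr Cfsg.Agent.BpExc.Pair Cfsg.Agent.BpExc.LangFr Cfsg.Agent.GpExc.Field
  Cfsg.Agent.BpExc.TorAll
open Cfsg.Agent.H469.Exc Cfsg.Agent.H469.Exc.SigFr
open Cfsg.Agent.Nodes.RGDFoldSL
open Cfsg.Agent.ChevalleyStructure.SL2Hom (up lo mem_closure_SL2)
open Cfsg.Agent.H167.EX

universe u v

variable {D : ChevalleyDatum} {l : ℕ} {M : CoxeterMatrix (Fin l)} (hp : IsType D l M) {s : ℕ} (hs : s < D.nroots)

theorem emb_xs {F : Type u} [Field F] {K : Type u} [Field K] (f : F →+* K) {r : ℕ} (hr : r < D.nroots) (a : F) :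
    emb hp.inList f (xs hp.inList r a) = xs hp.inList r (f a) := by
  rw [xs_eq_xc hp hr, emb_xc, xs_eq_xc hp hr]

theorem emb_ph {F : Type u} [Field F] {K : Type u} [Field K] (f : F →+* K) (A : SL F) :
    emb hp.inList f (ph hp F hs A) = ph hp K hs (Matrix.SpecialLinearGroup.map f A) := by
  have h1 : A ∈ (MonoidHom.eqLocus ((emb hp.inList f).comp (ph hp F hs))
      ((ph hp K hs).comp (Matrix.SpecialLinearGroup.map (n := Fin 2) f))) := by
    refine (Subgroup.closure_le _).2 ?_ (mem_closure_SL2 A)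
    rintro _ (⟨t, rfl⟩ | ⟨t, rfl⟩)
    · show emb hp.inList f (ph hp F hs (up t)) = ph hp K hs (Matrix.SpecialLinearGroup.map f (up t))
      rw [ph_up, map_up, ph_up, emb_xs hp f hs]
    · show emb hp.inList f (ph hp F hs (lo t)) = ph hp K hs (Matrix.SpecialLinearGroup.map f (lo t))
      rw [ph_lo, map_lo, ph_lo, emb_xs hp f (neg_lt hp.inList hs)]
  exact h1

/-- a matrix over a level -/
theorem exists_level_sl {k : Type u} [Field k] (hk : LocFin k) (A : SL k) : ∃ E : Lev k, ∀ E' : Lev k, E ≤ E' →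
    ∃ A' : SL ↥E'.1, Matrix.SpecialLinearGroup.map E'.1.subtype A' = A := by
  obtain ⟨E, hE⟩ := exists_lev hk (Set.range fun x : Fin 2 × Fin 2 => A.1 x.1 x.2) (Set.finite_range _)
  refine ⟨E, fun E' hEE' => ?_⟩
  have hmem : ∀ i j, A.1 i j ∈ E'.1 := fun i j => hEE' (hE ⟨(i, j), rfl⟩)
  let B : Matrix (Fin 2) (Fin 2) ↥E'.1 := fun i j => ⟨A.1 i j, hmem i j⟩
  have hB : B.map E'.1.subtype = A.1 := by
    ext i j
    rfl
  refine ⟨⟨B, ?_⟩, ?_⟩
  · have h1 : E'.1.subtype B.det = A.1.det := by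
      rw [← hB, RingHom.map_det]
      rfl
    rw [A.2] at h1
    exact E'.1.subtype_injective (by rw [h1, map_one])
  · apply Subtype.ext
    exact hB

theorem zz_emb {F : Type u} [Field F] {K : Type u} [Field K] (f : F →+* K) :
    emb hp.inList f (zz hp (k := F) hs) = zz hp (k := K) hs := by
  unfold zz
  rw [emb_ph, map_hS, map_neg, map_one]

/-- **`C(h_s(-1))` normalises the root `SL₂`.** -/
theorem cent_norm_lf {k : Type u} [Field k] (hk : LocFin k) (h2 : (2 : k) ≠ 0) (hA : H808.RV.tabA D s = true)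
    (hB : H808.RV.tabB D s = true) {g : ↥(D.group k)} (hg : g * zz hp (k := k) hs = zz hp (k := k) hs * g) :
    ∀ x ∈ (ph hp k hs).range, g * x * g⁻¹ ∈ (ph hp k hs).range := by
  rintro _ ⟨A, rfl⟩
  obtain ⟨E1, h1⟩ := exists_level hp hk g
  obtain ⟨E2, h2'⟩ := exists_level_sl hk A
  obtain ⟨E, h3, h4⟩ := dir_lev hk E1 E2
  obtain ⟨g', rfl⟩ := h1 E h3
  obtain ⟨A', rfl⟩ := h2' E h4
  have hinj : Function.Injective (emb hp.inList E.1.subtype) := emb_injective hp.inList _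
  have h5 : g' * zz hp (k := ↥E.1) hs = zz hp (k := ↥E.1) hs * g' := by
    apply hinj
    rw [map_mul, map_mul, zz_emb, hg]
  have h2E : (2 : ↥E.1) ≠ 0 := by
    intro h
    apply h2
    have h0 := congrArg E.1.subtype h
    rwa [map_ofNat, map_zero] at h0
  have h6 : (g' : GL D.Idx ↥E.1) * hG hp.inList s (-1) = hG hp.inList s (-1) * (g' : GL D.Idx ↥E.1) := by
    have h7 := congrArg Subtype.val h5
    rw [Subgroup.coe_mul, Subgroup.coe_mul] at h7
    have h8 : ((zz hp (k := ↥E.1) hs : ↥(D.group ↥E.1)) : GL D.Idx ↥E.1) = hG hp.inList s (-1) := by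
      unfold zz
      rw [coe_ph, psi_hS hp.inList hs]
    rwa [h8] at h7
  obtain ⟨B, hB'⟩ := H808.RV.cent_norm hp.inList h2E hs hA hB g'.2 h6 (psi hp.inList ↥E.1 s A') ⟨A', rfl⟩
  refine ⟨Matrix.SpecialLinearGroup.map E.1.subtype B, ?_⟩
  have h9 : ph hp ↥E.1 hs B = g' * ph hp ↥E.1 hs A' * g'⁻¹ := Subtype.ext hB'
  rw [← emb_ph, h9, map_mul, map_mul, map_inv, emb_ph]

end Cfsg.Agent.H550.RX
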