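import Cfsg.Agent.H550.RX.Ker
import Cfsg.Agent.H554.RX.Def
import Cfsg.Agent.H554.BS.Row
import Cfsg.Agent.H554.BS.Sigma
import Cfsg.Agent.H550.RV.NoMinAb

/-!
# Box R3 of TEAM RV, exceptional groups: abstract final part (helper550)

* `TwoN p X E T` : the elements of odd order of a finite subgroup of order prime to `3 p` which contains `X` (and has
  the property `E`) lie in `T`;
* `fTwo_row` : `TwoN` and a Hall `π`-subgroup give `FTwo π G`;
* `fix_four` : `m = 4`;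
* `twoN_core` : `TwoN` from the permutation of the frame.
-/

set_option autoImplicit false
set_option linter.unusedSectionVars false

namespace Cfsg.Agent.H550.RX

open Subgroup Cfsg Cfsg.Agent.H554.BS Cfsg.Agent.H988.CPi Cfsg.Agent.H553.ExtRed
open scoped Pointwise

universe u v

section Abs

variable {Γ : Type v} [Group Γ]

/-- the elements of odd order of `K` are toral -/
def TwoN (p : ℕ) (X : Set Γ) (E : Subgroup Γ → Prop) (T : Subgroup Γ) : Prop :=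
  ∀ K : Subgroup Γ, Finite K → ¬ 3 ∣ Nat.card K → ¬ p ∣ Nat.card K → X ⊆ K → E K → ∀ y ∈ K, Odd (orderOf y) → y ∈ T

theorem odd_mul_of_comm {G : Type*} [Group G] {x y : G} (h : x * y = y * x) (hx : Odd (orderOf x))
    (hy : Odd (orderOf y)) : Odd (orderOf (x * y)) := by
  have h1 : (x * y) ^ (orderOf x * orderOf y) = 1 := by
    rw [Commute.mul_pow h, pow_mul, pow_orderOf_eq_one, one_pow, mul_comm, pow_mul, pow_orderOf_eq_one, one_pow, one_mul]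
  exact Odd.of_dvd_nat (hx.mul hy) (orderOf_dvd_of_pow_eq_one h1)

variable {G : Type u} [Group G] [Finite G]

/-- **The row.** -/
theorem fTwo_row {π : Set ℕ} (h2π : 2 ∈ π) (h3π : 3 ∉ π) {p : ℕ} (hpπ : p ∉ π) (hp : p.Prime) {T : Subgroup Γ}
    (hTab : ∀ x ∈ T, ∀ y ∈ T, x * y = y * x) {X : Set Γ} {E : Subgroup Γ → Prop} (hcore : TwoN p X E T) (f : G →* Γ)
    (hf : Function.Injective f) (z : Γ) {R : Subgroup G} (hR : IsPGroup 2 R)
    (hXR : ∀ x ∈ X, ∃ a ∈ R, f a = z * x * z⁻¹)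
    (hE : ∀ K : Subgroup Γ, (∀ a ∈ R, z⁻¹ * f a * z ∈ K) → E K)
    (H : Subgroup G) (hH : IsPiHall π H) : H959.RV.FTwo π G := by
  have := Fact.mk Nat.prime_two
  obtain ⟨g, hg⟩ := exists_conj_le (K := H) (hH.2 2 Nat.prime_two h2π) hR
  set H₁ : Subgroup G := MulAut.conj g⁻¹ • H with hH₁
  have hH₁H : IsPiHall π H₁ := isPiHall_smul hH g⁻¹
  have hRH : R ≤ H₁ := by
    intro a ha
    rw [hH₁, mem_cs, inv_inv]
    exact hg a ha
  let F : G →* Γ := (MulAut.conj z⁻¹).toMonoidHom.comp f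
  have hFa : ∀ a, F a = z⁻¹ * f a * z := fun a => by
    show z⁻¹ * f a * z⁻¹⁻¹ = _
    rw [inv_inv]
  have hF : Function.Injective F := (MulAut.conj z⁻¹).injective.comp hf
  set K : Subgroup Γ := H₁.map F with hK
  have hKfin : Finite K := fin_map F H₁
  have hcardK : Nat.card K = Nat.card H₁ := (Nat.card_congr (H₁.equivMapOfInjective F hF).toEquiv).symm
  have hK3 : ¬ 3 ∣ Nat.card K := fun h => h3π (hH₁H.1 3 Nat.prime_three (by rwa [← hcardK]))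
  have hKp : ¬ p ∣ Nat.card K := fun h => hpπ (hH₁H.1 p hp (by rwa [← hcardK]))
  have hXK : X ⊆ K := by
    intro x hx
    obtain ⟨a, haR, ha⟩ := hXR x hx
    refine ⟨a, hRH haR, ?_⟩
    rw [hFa, ha]; group
  have hodd : ∀ x ∈ H₁, Odd (orderOf x) → F x ∈ T := by
    intro x hx hxo
    refine hcore K hKfin hK3 hKp hXK (hE K fun a ha => ⟨a, hRH ha, hFa a⟩) (F x) ⟨x, hx, rfl⟩ ?_
    rw [orderOf_injective F hF]
    exact hxo
  have hcomm : ∀ x ∈ H₁, ∀ y ∈ H₁, Odd (orderOf x) → Odd (orderOf y) → x * y = y * x := by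
    intro x hx y hy hxo hyo
    apply hF
    rw [map_mul, map_mul]
    exact hTab _ (hodd x hx hxo) _ (hodd y hy hyo)
  refine H550.RV.fTwo_of_oddClosed hH₁H ?_ hcomm
  rintro ⟨x, hx⟩ ⟨y, hy⟩ hxo hyo
  rw [Subgroup.orderOf_mk] at hxo hyo
  have h1 := odd_mul_of_comm (hcomm x hx y hy hxo hyo) hxo hyo
  show Odd (orderOf ((⟨x, hx⟩ : H₁) * ⟨y, hy⟩))
  rw [← Subgroup.orderOf_coe]
  exact h1

/-- four objects permuted by a group of order prime to 3: odd elements act trivially -/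
theorem fix_four {ζ : Fin 4 → Γ} (hinj : Function.Injective ζ) {K : Subgroup Γ} [Finite K] (h3 : ¬ 3 ∣ Nat.card K)
    (hperm : ∀ x ∈ K, ∀ i, ∃ j, x * ζ i * x⁻¹ = ζ j) : ∀ y ∈ K, Odd (orderOf y) → ∀ i, y * ζ i = ζ i * y := by
  classical
  intro y hy hodd
  choose f hf using fun x : K => hperm x x.2
  have hmul : ∀ (a b : K) (i : Fin 4), f (a * b) i = f a (f b i) := by
    intro a b i
    apply hinj
    rw [← hf, ← hf, ← hf, Subgroup.coe_mul]
    group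
  have hone : ∀ i, f 1 i = i := by
    intro i
    apply hinj
    rw [← hf, Subgroup.coe_one, one_mul, inv_one, mul_one]
  let φ : K →* Equiv.Perm (Fin 4) :=
    { toFun := fun a => ⟨f a, f a⁻¹, fun i => by rw [← hmul, inv_mul_cancel, hone],
        fun i => by rw [← hmul, mul_inv_cancel, hone]⟩
      map_one' := Equiv.ext hone
      map_mul' := fun a b => Equiv.ext (hmul a b) }
  have hφ : ∀ a i, φ a i = f a i := fun a i => rfl
  have h1 : orderOf (φ ⟨y, hy⟩) ∣ orderOf y := by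
    have h5 := orderOf_map_dvd φ (⟨y, hy⟩ : K)
    rwa [Subgroup.orderOf_mk] at h5
  have h2 : orderOf (φ ⟨y, hy⟩) ∣ 24 := by
    have h5 : orderOf (φ ⟨y, hy⟩) ∣ Nat.card (Equiv.Perm (Fin 4)) := orderOf_dvd_natCard _
    have h6 : Nat.card (Equiv.Perm (Fin 4)) = 24 := by
      rw [Nat.card_eq_fintype_card]
      decide
    rwa [h6] at h5
  have h3' : ¬ 3 ∣ orderOf y := by
    intro h
    apply h3
    refine h.trans ?_
    have h5 : orderOf (⟨y, hy⟩ : K) ∣ Nat.card K := orderOf_dvd_natCard _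
    rwa [Subgroup.orderOf_mk] at h5
  have hcop : Nat.Coprime (orderOf y) 24 := by
    rw [show 24 = 2 ^ 3 * 3 by norm_num]
    refine Nat.Coprime.mul_right (Nat.Coprime.pow_right _ (Nat.coprime_two_right.2 hodd)) ?_
    exact ((Nat.Prime.coprime_iff_not_dvd Nat.prime_three).2 h3').symm
  have h4 : orderOf (φ ⟨y, hy⟩) = 1 := Nat.eq_one_of_dvd_coprimes hcop h1 h2
  have h5 : φ ⟨y, hy⟩ = 1 := orderOf_eq_one_iff.1 h4
  intro i
  have h6 : f ⟨y, hy⟩ i = i := by rw [← hφ, h5]; rfl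
  have h7 := hf ⟨y, hy⟩ i
  rw [h6] at h7
  exact mul_inv_eq_iff_eq_mul.1 h7

open Cfsg.Agent.Nodes.RGDFoldSL (wS hS) in
open Cfsg.Agent.H554.RX in
theorem kok_abs {k : Type u} [Field k] {ι : Type*} {ψ : ι → Matrix.SpecialLinearGroup (Fin 2) k →* Γ} {T : Subgroup Γ}
    {X : Set Γ} {p : ℕ} {i₀ : k} (hOne : OneP p X T) (K : Subgroup Γ) (hfin : Finite K) (h3 : ¬ 3 ∣ Nat.card K)
    (hpK : ¬ p ∣ Nat.card K) (hX : X ⊆ K) (hx : ∀ j, ψ j (hS i₀) ∈ K) (hn : ∀ j, ψ j (wS 1) ∈ K) :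
    ∃ P N, KOK ψ T p i₀ K P N := by
  obtain ⟨N, hNK, hNn, hNT, hNo, hNC⟩ := hOne K hfin h3 hpK hX
  have hPn : ∀ g ∈ K, ∀ a ∈ (pCore 2 K).map K.subtype, g * a * g⁻¹ ∈ (pCore 2 K).map K.subtype := by
    rintro g hg _ ⟨a, ha, rfl⟩
    exact ⟨⟨g, hg⟩ * a * ⟨g, hg⟩⁻¹, (Cfsg.Agent.Lib.Cores.pCore_normal 2).conj_mem a ha _, rfl⟩
  have hP2 : IsPGroup 2 ((pCore 2 K).map K.subtype) := (Cfsg.Agent.Lib.Cores.pCore_isPGroup 2).map _
  exact ⟨(pCore 2 K).map K.subtype, N, hfin, h3, hpK, hx, hn, map_subtype_le _, hPn, hP2, hNK, hNn, hNo, hNT, hNC⟩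

end Abs

section Core

open CoxeterSystem Cfsg.Lie Cfsg.Lie.ChevalleyDatum
open Cfsg.Agent.ChevalleyStructure Cfsg.Agent.ChevalleyStructure.Elts Cfsg.Agent.ChevalleyStructure.CoxeterGeom
  Cfsg.Agent.ChevalleyStructure.CoxeterGeomTypes Cfsg.Agent.ChevalleyStructure.NPerm
open Cfsg.Agent.Tits.Roots Cfsg.Agent.Tits.Core Cfsg.Agent.Nodes Cfsg.Agent.Nodes.Reps Cfsg.Agent.Nodes.BNOf
  Cfsg.Agent.Nodes.RGDChev Cfsg.Agent.Nodes.Bruhat Cfsg.Agent.Nodes.NormalForm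
open Cfsg.Agent.KFacts.RgdField Cfsg.Agent.KFacts.RgdChevCoord
open Cfsg.Agent.BpExc Cfsg.Agent.BpExc.TorCent Cfsg.Agent.BpExc.TorChev Cfsg.Agent.BpExc.Tow
  Cfsg.Agent.BpExc.TowChev Cfsg.Agent.BpExc.Fr Cfsg.Agent.BpExc.Pair Cfsg.Agent.BpExc.LangFr Cfsg.Agent.GpExc.Field
  Cfsg.Agent.BpExc.TorAll
open Cfsg.Agent.H469.Exc Cfsg.Agent.H469.Exc.SigFr
open Cfsg.Agent.Nodes.RGDFoldSL
open Cfsg.Agent.ChevalleyStructure.SL2Hom (up lo mem_closure_SL2)
open Cfsg.Agent.H167.EX Cfsg.Agent.H554.RX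

variable {D : ChevalleyDatum} {l : ℕ} {M : CoxeterMatrix (Fin l)} (hp : IsType D l M) {k : Type u} [Field k]

/-- the toral elements and the quaternion groups of the frame -/
def XF (hp : IsType D l M) (k : Type u) [Field k] (i : k) (L1 FF : List ℕ) : Set ↥(D.group k) :=
  {x | (∃ d ∈ L1, x = xd hp i d) ∨ (∃ s ∈ FF, x = xd hp i s) ∨ ∃ s ∈ FF, x = wE hp k s}

/-- `KOK` from helper167's theorem -/
theorem exists_kok {i : k} {L1 FF : List ℕ} {m : ℕ} {s : Fin m → ℕ} (hs : ∀ j, s j < D.nroots)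
    (hsF : ∀ j, s j ∈ FF) {p : ℕ} (hOne : OneP p {x | ∃ d ∈ L1, x = xd hp i d} (TT D k)) (K : Subgroup ↥(D.group k))
    (hfin : Finite K) (h3 : ¬ 3 ∣ Nat.card K) (hpK : ¬ p ∣ Nat.card K) (hX : XF hp k i L1 FF ⊆ K) :
    ∃ P N, KOK (fun j => ph hp k (hs j)) (TT D k) p i K P N := by
  have hx : ∀ j, ph hp k (hs j) (hS i) ∈ K := fun j => by
    have h1 := hX (Or.inr (Or.inl ⟨s j, hsF j, rfl⟩))
    rw [xd_lt hp (hs j)] at h1
    exact h1
  have hn : ∀ j, ph hp k (hs j) (wS 1) ∈ K := fun j => by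
    have h1 := hX (Or.inr (Or.inr ⟨s j, hsF j, rfl⟩))
    rw [wE_eq hp (hs j)] at h1
    exact h1
  exact kok_abs hOne K hfin h3 hpK (fun x hx => hX (Or.inl hx)) hx hn

/-- **`TwoN` from the permutation of the frame.** -/
theorem twoN_core [IsAlgClosed k] (h2 : (2 : k) ≠ 0) (p : ℕ) [Fact p.Prime] [CharP k p] (hk : LocFin k) (hA : HAlg p k)
    (hc : cnt D l = true) {L1 : List ℕ} {g : ℕ → ℕ} (C : Chk D L1 g) (hL1 : ∀ d ∈ L1, d < D.nroots)
    (htwo : ∀ d ∈ L1, two D d = true) {i : k} (hi : i * i = -1) {FF : List ℕ} (hFF : ∀ s ∈ FF, s < D.nroots)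
    (hgood : ∀ s ∈ FF, good D s = true) (htA : ∀ s ∈ FF, H808.RV.tabA D s = true)
    (htB : ∀ s ∈ FF, H808.RV.tabB D s = true)
    (hfour : ∀ b < D.nroots, ∃ s ∈ FF, HMatDiagAll.expo D s b % 4 ≠ 0)
    (hOne : OneP p {x | ∃ d ∈ L1, x = xd hp i d} (TT D k))
    {m : ℕ} {s : Fin m → ℕ} (hs : ∀ j, s j < D.nroots) (hsF : ∀ j, s j ∈ FF) (hFs : ∀ b ∈ FF, ∃ j, s j = b)
    (hperm : ∀ K P N, KOK (fun j => ph hp k (hs j)) (TT D k) p i K P N → ∀ g ∈ K, ∀ j, ∃ j',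
      g * ph hp k (hs j) (hS (-1)) * g⁻¹ = ph hp k (hs j') (hS (-1)))
    {E : Subgroup ↥(D.group k) → Prop}
    (hfix : ∀ K : Subgroup ↥(D.group k), Finite K → ¬ 3 ∣ Nat.card K →
      (∀ g ∈ K, ∀ j, ∃ j', g * zz hp (k := k) (hs j) * g⁻¹ = zz hp (hs j')) → E K →
      ∀ y ∈ K, Odd (orderOf y) → ∀ j, y * zz hp (k := k) (hs j) = zz hp (hs j) * y) :
    TwoN p (XF hp k i L1 FF) E (TT D k) := by
  intro K hfin h3 hpK hX hE y hy hodd
  obtain ⟨P, N, hKOK⟩ := exists_kok hp hs hsF hOne K hfin h3 hpK hX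
  have hpm := hperm K P N hKOK
  have hfx := hfix K hfin h3 hpm hE
  have hi0 : i ≠ 0 := by rintro rfl; rw [mul_zero] at hi; exact one_ne_zero (neg_eq_zero.1 hi.symm)
  -- the kernel
  let K₀ : Subgroup ↥(D.group k) := K ⊓ Subgroup.centralizer {x | ∃ j, x = zz hp (k := k) (hs j)}
  have hK₀K : K₀ ≤ K := inf_le_left
  have hK₀fin : Finite K₀ := Finite.of_injective (Subgroup.inclusion hK₀K) (Subgroup.inclusion_injective hK₀K)
  have hdvd : Nat.card K₀ ∣ Nat.card K := Subgroup.card_dvd_of_le hK₀K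
  have hmem : ∀ x ∈ K, (∀ j, x * zz hp (k := k) (hs j) = zz hp (hs j) * x) → x ∈ K₀ := by
    intro x hx h
    refine Subgroup.mem_inf.2 ⟨hx, ?_⟩
    rw [Subgroup.mem_centralizer_iff]
    rintro _ ⟨j, rfl⟩
    exact (h j).symm
  have htor : ∀ d, xd hp i d ∈ K → xd hp i d ∈ K₀ := by
    intro d hd
    refine hmem _ hd fun j => ?_
    exact TT_comm hp _ (xd_mem hp hi0 d) _ (zz_mem hp (hs j))
  refine odd_mem_TT hp h2 p hk hA hc C hL1 htwo hi hFF hgood htA htB hfour K₀ (fun h => h3 (h.trans hdvd))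
    (fun h => hpK (h.trans hdvd)) (fun d hd => htor d (hX (Or.inl ⟨d, hd, rfl⟩)))
    (fun s' hs' => htor s' (hX (Or.inr (Or.inl ⟨s', hs', rfl⟩)))) ?_ (hmem y hy fun j => hfx y hy hodd j) hodd
  intro x hx b hb
  obtain ⟨j, rfl⟩ := hFs b hb
  have hx' := (Subgroup.mem_inf.1 hx).2
  rw [Subgroup.mem_centralizer_iff] at hx'
  exact (hx' _ ⟨j, rfl⟩).symm

end Core

end Cfsg.Agent.H550.RX
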