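import Cfsg.Agent.H550.RX.FinA
import Cfsg.Agent.H554.BS.TwZ
import Cfsg.Agent.H795.Core
import Cfsg.Agent.H808.RV.FTabA

/-!
# Box R3 of TEAM RV, exceptional groups: the 2-subgroup of `S` (helper550)

* `RG` : the 2-group generated by the 4-torsion of the torus and the `ph_s (wS 1)`, `s` in the frame;
* `wE_mem` : `z * ph_s (wS 1) * z⁻¹` lies in the finite group, `2` prime to the index;
* `fTwo_gen` : `FTwo π S` from `TwoN` and the membership statements.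
-/

set_option autoImplicit false
set_option linter.unusedSectionVars false

namespace Cfsg.Agent.H550.RX

open CoxeterSystem Cfsg Cfsg.Lie Cfsg.Lie.ChevalleyDatum
open Cfsg.Agent.ChevalleyStructure Cfsg.Agent.ChevalleyStructure.Elts Cfsg.Agent.ChevalleyStructure.CoxeterGeom
  Cfsg.Agent.ChevalleyStructure.CoxeterGeomTypes Cfsg.Agent.ChevalleyStructure.NPerm
open Cfsg.Agent.Tits.Roots Cfsg.Agent.Tits.Core Cfsg.Agent.Nodes Cfsg.Agent.Nodes.Reps Cfsg.Agent.Nodes.BNOf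
  Cfsg.Agent.Nodes.RGDChev Cfsg.Agent.Nodes.Bruhat Cfsg.Agent.Nodes.NormalForm
open Cfsg.Agent.KFacts.RgdField Cfsg.Agent.KFacts.RgdChevCoord
open Cfsg.Agent.BpExc Cfsg.Agent.BpExc.TorCent Cfsg.Agent.BpExc.TorChev Cfsg.Agent.BpExc.Tow
  Cfsg.Agent.BpExc.TowChev Cfsg.Agent.BpExc.Fr Cfsg.Agent.BpExc.Pair Cfsg.Agent.BpExc.LangFr Cfsg.Agent.GpExc.Field
  Cfsg.Agent.BpExc.TorAll
open Cfsg.Agent.H469.Exc Cfsg.Agent.H469.Exc.SigFr
open Cfsg.Agent.Nodes.RGDFoldSL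
open Cfsg.Agent.ChevalleyStructure.SL2Hom (up lo mem_closure_SL2)
open Cfsg.Agent.H167.EX Cfsg.Agent.H554.BS Cfsg.Agent.H795 Cfsg.Agent.H129.TorusChar

universe u v w

theorem closure_pow4 {G : Type*} [Group G] {S : Set G} (hcomm : ∀ a ∈ S, ∀ b ∈ S, a * b = b * a)
    (h4 : ∀ a ∈ S, a ^ 4 = 1) : ∀ x ∈ Subgroup.closure S, x ^ 4 = 1 := by
  have h1 : Subgroup.closure S ≤ Subgroup.centralizer S :=
    (Subgroup.closure_le _).2 fun a ha => Subgroup.mem_centralizer_iff.2 fun b hb => hcomm b hb a ha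
  have h2 : Subgroup.closure S ≤ Subgroup.centralizer (Subgroup.closure S : Set G) :=
    (Subgroup.closure_le _).2 fun a ha => Subgroup.mem_centralizer_iff.2 fun b hb =>
      (Subgroup.mem_centralizer_iff.1 (h1 hb) a ha).symm
  have h3 : ∀ x ∈ Subgroup.closure S, ∀ y ∈ Subgroup.closure S, x * y = y * x := fun x hx y hy =>
    (Subgroup.mem_centralizer_iff.1 (h2 hx) y hy).symm
  intro x hx
  have key : x ∈ Subgroup.closure S ∧ x ^ 4 = 1 := by
    induction hx using Subgroup.closure_induction with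
    | mem y hy => exact ⟨Subgroup.subset_closure hy, h4 y hy⟩
    | one => exact ⟨one_mem _, one_pow 4⟩
    | mul a b ha hb iha ihb =>
      refine ⟨mul_mem ha hb, ?_⟩
      have hc : Commute a b := h3 a ha b hb
      rw [hc.mul_pow, iha.2, ihb.2, one_mul]
    | inv a ha iha => exact ⟨inv_mem ha, by rw [inv_pow, iha.2, inv_one]⟩
  exact key.2

variable {D : ChevalleyDatum} {l : ℕ} {M : CoxeterMatrix (Fin l)} (hp : IsType D l M)

section RG

variable {k : Type u} [Field k]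

/-- the 4-torsion of the torus -/
def T4 (hp : IsType D l M) (k : Type u) [Field k] : Subgroup ↥(D.group k) where
  carrier := {t | t ∈ TT D k ∧ t ^ 4 = 1}
  one_mem' := ⟨one_mem _, one_pow 4⟩
  mul_mem' := by
    rintro a b ⟨ha, ha4⟩ ⟨hb, hb4⟩
    have hab : Commute a b := TT_comm hp _ ha _ hb
    exact ⟨mul_mem ha hb, by rw [hab.mul_pow, ha4, hb4, one_mul]⟩
  inv_mem' := by
    rintro a ⟨ha, ha4⟩
    exact ⟨inv_mem ha, by rw [inv_pow, ha4, inv_one]⟩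

theorem mem_T4 {t : ↥(D.group k)} : t ∈ T4 hp k ↔ t ∈ TT D k ∧ t ^ 4 = 1 := Iff.rfl

/-- the 2-group -/
def RG (hp : IsType D l M) (k : Type u) [Field k] (FF : List ℕ) : Subgroup ↥(D.group k) :=
  T4 hp k ⊔ Subgroup.closure {x | ∃ s ∈ FF, x = wE hp k s}

theorem wE_four {s : ℕ} : wE hp k s ^ 4 = 1 := by
  unfold wE
  split_ifs with hs
  · rw [← map_pow]
    have h1 : (wS (1 : k)) ^ 4 = 1 := by
      rw [show 4 = 2 * 2 by norm_num, pow_mul, wS_sq one_ne_zero, hS_neg_sq]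
    rw [h1, map_one]
  · exact one_pow 4

theorem ph_comm_of_tabO {FF : List ℕ} (hFF : ∀ s ∈ FF, s < D.nroots) (hO : H808.RV.tabO D FF = true) {a b : ℕ}
    (ha : a ∈ FF) (hb : b ∈ FF) (hab : a ≠ b) (A B : SL k) :
    ph hp k (hFF a ha) A * ph hp k (hFF b hb) B = ph hp k (hFF b hb) B * ph hp k (hFF a ha) A := by
  obtain ⟨h1, h2⟩ := H808.RV.tabO_spec hO ha hb hab
  exact Subtype.ext (H808.RV.psi_comm hp.inList (hFF a ha) (hFF b hb) h1 h2 A B)

theorem wE_comm {FF : List ℕ} (hFF : ∀ s ∈ FF, s < D.nroots) (hO : H808.RV.tabO D FF = true) {a b : ℕ}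
    (ha : a ∈ FF) (hb : b ∈ FF) : wE hp k a * wE hp k b = wE hp k b * wE hp k a := by
  by_cases hab : a = b
  · rw [hab]
  · rw [wE_eq hp (hFF a ha), wE_eq hp (hFF b hb)]
    exact ph_comm_of_tabO hp hFF hO ha hb hab _ _

theorem isPGroup_RG [IsAlgClosed k] (p : ℕ) [Fact p.Prime] [CharP k p] (hk : LocFin k) {FF : List ℕ}
    (hFF : ∀ s ∈ FF, s < D.nroots) (hO : H808.RV.tabO D FF = true) : IsPGroup 2 (RG hp k FF) := by
  refine IsPGroup.to_sup_of_normal_left' (fun a => ⟨2, Subtype.ext a.2.2⟩) (fun a => ⟨2, Subtype.ext ?_⟩) ?_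
  · refine closure_pow4 ?_ ?_ (a : ↥(D.group k)) a.2
    · rintro _ ⟨s, hs, rfl⟩ _ ⟨s', hs', rfl⟩
      exact wE_comm hp hFF hO hs hs'
    · rintro _ ⟨s, -, rfl⟩
      exact wE_four hp
  · refine (Subgroup.closure_le _).2 ?_
    rintro _ ⟨s, hs, rfl⟩
    have h1 : ∀ t ∈ T4 hp k, wE hp k s * t * (wE hp k s)⁻¹ ∈ T4 hp k := by
      rintro t ⟨ht, ht4⟩
      refine ⟨(cX_wE hp hk (hFF s hs) p ht).1, ?_⟩
      rw [conj_pow, ht4, mul_one, mul_inv_cancel]
    have h2 : ∀ m : ℕ, ∀ t ∈ T4 hp k, wE hp k s ^ m * t * (wE hp k s ^ m)⁻¹ ∈ T4 hp k := by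
      intro m
      induction m with
      | zero => intro t ht; simpa using ht
      | succ m ih =>
        intro t ht
        have h3 := ih _ (h1 t ht)
        have e : wE hp k s ^ (m + 1) * t * (wE hp k s ^ (m + 1))⁻¹ =
            wE hp k s ^ m * (wE hp k s * t * (wE hp k s)⁻¹) * (wE hp k s ^ m)⁻¹ := by
          rw [pow_succ]; group
        rw [e]
        exact h3
    rw [SetLike.mem_coe, Subgroup.mem_normalizer_iff]
    intro t
    refine ⟨h1 t, fun ht => ?_⟩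
    have h3 := h2 3 _ ht
    have e : wE hp k s ^ 3 * (wE hp k s * t * (wE hp k s)⁻¹) * (wE hp k s ^ 3)⁻¹ =
        wE hp k s ^ 4 * t * (wE hp k s ^ 4)⁻¹ := by
      rw [pow_succ (wE hp k s) 3]; group
    rw [e, wE_four hp] at h3
    simpa using h3

theorem RG_comm_zz {FF : List ℕ} (hFF : ∀ s ∈ FF, s < D.nroots) (hO : H808.RV.tabO D FF = true) {x : ↥(D.group k)}
    (hx : x ∈ RG hp k FF) {s : ℕ} (hs : s ∈ FF) : x * zz hp (k := k) (hFF s hs) = zz hp (hFF s hs) * x := by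
  have h1 : RG hp k FF ≤ Subgroup.centralizer {zz hp (k := k) (hFF s hs)} := by
    refine sup_le ?_ ((Subgroup.closure_le _).2 ?_)
    · intro t ht
      exact Subgroup.mem_centralizer_singleton_iff.2 (TT_comm hp _ ht.1 _ (zz_mem hp (hFF s hs)))
    · rintro _ ⟨a, ha, rfl⟩
      refine Subgroup.mem_centralizer_singleton_iff.2 ?_
      rw [wE_eq hp (hFF a ha)]
      unfold zz
      by_cases hab : a = s
      · subst hab
        rw [← map_mul, ← map_mul]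
        congr 1
        have h2 : (wS (1 : k)) ^ 2 = hS (-1) := wS_sq one_ne_zero
        rw [← h2, ← pow_succ, ← pow_succ']
      · exact ph_comm_of_tabO hp hFF hO ha hs hab _ _
  exact Subgroup.mem_centralizer_singleton_iff.1 (h1 hx)

end RG

section Mem

variable {k : Type u} [Field k] [IsAlgClosed k] {p e : ℕ} [Fact p.Prime] [CharP k p]

/-- fixed points after twisting -/
theorem fixed_of_comm {σ : MulAut ↥(D.group k)} {z x n : ↥(D.group k)} (hz : z⁻¹ * σ z = n) (hx : σ x = x)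
    (hn : n * x = x * n) : σ (z * x * z⁻¹) = z * x * z⁻¹ := by
  have h1 : σ z = z * n := by rw [← hz]; group
  rw [map_mul, map_mul, map_inv, hx, h1]
  calc z * n * x * (z * n)⁻¹ = z * (n * x) * n⁻¹ * z⁻¹ := by group
    _ = z * x * z⁻¹ := by rw [hn]; group

theorem wL_comm_wE {FF : List ℕ} (hFF : ∀ s ∈ FF, s < D.nroots) (hO : H808.RV.tabO D FF = true) {s : ℕ} (hs : s ∈ FF) :
    ∀ L : List ℕ, (∀ a ∈ L, a ∈ FF) → wL hp k L * wE hp k s = wE hp k s * wL hp k L := by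
  intro L
  induction L with
  | nil =>
    intro _
    have h1 : wL hp k [] = 1 := rfl
    rw [h1, one_mul, mul_one]
  | cons a L ih =>
    intro hL
    have h1 : wL hp k (a :: L) = wE hp k a * wL hp k L := by
      unfold wL; rw [List.map_cons, List.prod_cons]
    have h2 := ih fun b hb => hL b (List.mem_cons_of_mem _ hb)
    rw [h1, mul_assoc, h2, ← mul_assoc, wE_comm hp hFF hO (hL a List.mem_cons_self) hs, mul_assoc]

/-- `σ` fixes `ph_s (wS 1)` -/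
theorem sig_wE {σ : MulAut ↥(D.group k)} {s : ℕ} (hs : s < D.nroots)
    (h1 : σ (xs hp.inList s 1) = xs hp.inList s (1 : k))
    (h2 : σ (xs hp.inList (D.neg s) (-1)) = xs hp.inList (D.neg s) (-1 : k)) : σ (wE hp k s) = wE hp k s := by
  have e : wE hp k s = xs hp.inList s 1 * xs hp.inList (D.neg s) (-1) * xs hp.inList s 1 := by
    rw [wE_eq hp hs]
    unfold wS
    rw [map_mul, map_mul, ph_up, ph_lo, inv_one, mul_assoc]
  rw [e, map_mul, map_mul, h1, h2]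

/-- **the elements `z ph_s (wS 1) z⁻¹` lie in the finite group, 2 prime to the index** -/
theorem wE_mem {G : Type w} [Group G] {ι : G →* ↥(D.group k)} {σ : MulAut ↥(D.group k)}
    {g : (Fin l → ℤ) ≃+ (Fin l → ℤ)} (set2 : Cfsg.Agent.H795.Core.Setup hp 2 p e ι σ g) {FF : List ℕ} (hFF : ∀ s ∈ FF, s < D.nroots)
    (hO : H808.RV.tabO D FF = true) (hσ : ∀ s ∈ FF, σ (wE hp k s) = wE hp k s) {L : List ℕ} (hL : ∀ a ∈ L, a ∈ FF)
    {z : ↥(D.group k)} (hz : z⁻¹ * σ z = wL hp k L) {s : ℕ} (hs : s ∈ FF) : ∃ x, ι x = z * wE hp k s * z⁻¹ := by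
  refine set2.p_mem _ (fixed_of_comm hz (hσ s hs) (wL_comm_wE hp hFF hO hs L hL)) ⟨2, ?_⟩
  rw [show (2 : ℕ) ^ 2 = 4 by norm_num, conj_pow, wE_four hp, mul_one, mul_inv_cancel]

end Mem

section Gen

variable {k : Type u} [Field k] [IsAlgClosed k]

open Cfsg.Agent.H988.CPi in
/-- **`FTwo` from `TwoN`.** -/
theorem fTwo_gen (p : ℕ) [Fact p.Prime] [CharP k p] (hk : LocFin k) {π : Set ℕ} (h2π : 2 ∈ π) (h3π : 3 ∉ π)
    (hpπ : p ∉ π) {i : k} (hi : i * i = -1) {L1 FF : List ℕ} (hFF : ∀ s ∈ FF, s < D.nroots)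
    (hO : H808.RV.tabO D FF = true) {S : Type v} [Group S] [Finite S] (hEπ : IsEPiGroup π S)
    {f : S →* ↥(D.group k)} (hf : Function.Injective f) {z : ↥(D.group k)}
    (hx : ∀ d ∈ L1, ∃ a, f a = z * xd hp i d * z⁻¹) (hxs : ∀ d ∈ FF, ∃ a, f a = z * xd hp i d * z⁻¹)
    (hw : ∀ d ∈ FF, ∃ a, f a = z * wE hp k d * z⁻¹) {E : Subgroup ↥(D.group k) → Prop}
    (hcore : TwoN p (XF hp k i L1 FF) E (TT D k))
    (hext : ∀ Q : Subgroup S, IsPGroup 2 Q → (∀ a ∈ Q, ∀ s (hs : s ∈ FF), (z⁻¹ * f a * z) * zz hp (k := k) (hFF s hs) =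
      zz hp (hFF s hs) * (z⁻¹ * f a * z)) → ∃ R : Subgroup S, IsPGroup 2 R ∧ Q ≤ R ∧
      ∀ K : Subgroup ↥(D.group k), (∀ a ∈ R, z⁻¹ * f a * z ∈ K) → E K) : H959.RV.FTwo π S := by
  have hi0 : i ≠ 0 := by rintro rfl; rw [mul_zero] at hi; exact one_ne_zero (neg_eq_zero.1 hi.symm)
  obtain ⟨H, hH⟩ := hEπ
  let F : S →* ↥(D.group k) := (MulAut.conj z⁻¹).toMonoidHom.comp f
  have hFa : ∀ a, F a = z⁻¹ * f a * z := fun a => by
    show z⁻¹ * f a * z⁻¹⁻¹ = _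
    rw [inv_inv]
  have hF : Function.Injective F := (MulAut.conj z⁻¹).injective.comp hf
  let Q : Subgroup S := (RG hp k FF).comap F
  have hQ : IsPGroup 2 Q := (isPGroup_RG hp p hk hFF hO).comap_of_injective F hF
  obtain ⟨R, hR, hQR, hRE⟩ := hext Q hQ fun a ha s hs => by
    have h1 : F a ∈ RG hp k FF := ha
    rw [hFa] at h1
    exact RG_comm_zz hp hFF hO h1 hs
  have hmem : ∀ x ∈ RG hp k FF, (∃ a, f a = z * x * z⁻¹) → ∃ a ∈ R, f a = z * x * z⁻¹ := by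
    rintro x hx ⟨a, ha⟩
    refine ⟨a, hQR ?_, ha⟩
    show F a ∈ RG hp k FF
    have h1 : F a = x := by rw [hFa, ha]; group
    rw [h1]
    exact hx
  have hxR : ∀ d, xd hp i d ∈ RG hp k FF := fun d =>
    Subgroup.mem_sup_left ((mem_T4 hp).2 ⟨xd_mem hp hi0 d, xd_four hp hi d⟩)
  refine fTwo_row h2π h3π hpπ Fact.out (TT_comm hp (K := k)) hcore f hf z hR ?_ hRE H hH
  rintro x (⟨d, hd, rfl⟩ | ⟨d, hd, rfl⟩ | ⟨d, hd, rfl⟩)
  · exact hmem _ (hxR d) (hx d hd)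
  · exact hmem _ (hxR d) (hxs d hd)
  · exact hmem _ (Subgroup.mem_sup_right (Subgroup.subset_closure ⟨d, hd, rfl⟩)) (hw d hd)

end Gen

end Cfsg.Agent.H550.RX
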