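import Cfsg.Agent.H554.BS.Tab
import Cfsg.Agent.H971.RV.Tor
import Cfsg.Agent.H808.RV.FTabA

/-!
# Box R3 of TEAM RV, exceptional groups: tables (helper550)
-/

set_option autoImplicit false

namespace Cfsg.Agent.H550.RX

open CoxeterSystem Cfsg Cfsg.Lie Cfsg.Lie.ChevalleyDatum
open Cfsg.Agent.ChevalleyStructure Cfsg.Agent.ChevalleyStructure.CoxeterGeom Cfsg.Agent.Nodes.RGDChev
  Cfsg.Agent.ChevalleyStructure.CoxeterGeomTypes Cfsg.Agent.H167.EX Cfsg.Agent.H720.TwFr Cfsg.Agent.Tits.Roots Cfsg.Agent.Tits.Core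
open Cfsg.Agent.H554.BS Cfsg.Agent.H971.RV

theorem ltFE6 : ∀ s ∈ FE6, s < chevE6.nroots := by decide +kernel

theorem goodF4 : ∀ s ∈ FF4, good chevF4 s = true := by decide +kernel
theorem goodE6 : ∀ s ∈ FE6, good chevE6 s = true := by decide +kernel
theorem goodE7_0 : good chevE7 0 = true := by decide +kernel
theorem goodE7_33 : good chevE7 33 = true := by decide +kernel
theorem goodE7_38 : good chevE7 38 = true := by decide +kernel
theorem goodE7_47 : good chevE7 47 = true := by decide +kernel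
theorem goodE7_52 : good chevE7 52 = true := by decide +kernel
theorem goodE7_59 : good chevE7 59 = true := by decide +kernel
theorem goodE7_62 : good chevE7 62 = true := by decide +kernel
theorem goodE7 : ∀ s ∈ FE7, good chevE7 s = true := by
  intro s hs
  simp only [FE7, List.mem_cons, List.not_mem_nil, or_false] at hs
  rcases hs with rfl | rfl | rfl | rfl | rfl | rfl | rfl
  · exact goodE7_0
  · exact goodE7_33
  · exact goodE7_38
  · exact goodE7_47
  · exact goodE7_52
  · exact goodE7_59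
  · exact goodE7_62
theorem goodE8_0 : good chevE8 0 = true := by decide +kernel
theorem goodE8_13 : good chevE8 13 = true := by decide +kernel
theorem goodE8_80 : good chevE8 80 = true := by decide +kernel
theorem goodE8_87 : good chevE8 87 = true := by decide +kernel
theorem goodE8_98 : good chevE8 98 = true := by decide +kernel
theorem goodE8_104 : good chevE8 104 = true := by decide +kernel
theorem goodE8_113 : good chevE8 113 = true := by decide +kernel
theorem goodE8_118 : good chevE8 118 = true := by decide +kernel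
theorem goodE8 : ∀ s ∈ FE8, good chevE8 s = true := by
  intro s hs
  simp only [FE8, List.mem_cons, List.not_mem_nil, or_false] at hs
  rcases hs with rfl | rfl | rfl | rfl | rfl | rfl | rfl | rfl
  · exact goodE8_0
  · exact goodE8_13
  · exact goodE8_80
  · exact goodE8_87
  · exact goodE8_98
  · exact goodE8_104
  · exact goodE8_113
  · exact goodE8_118

theorem fourF4 : ∀ b < chevF4.nroots, ∃ s ∈ FF4, HMatDiagAll.expo chevF4 s b % 4 ≠ 0 := by decide +kernel
theorem fourE6 : ∀ b < chevE6.nroots, ∃ s ∈ FE6, HMatDiagAll.expo chevE6 s b % 4 ≠ 0 := by decide +kernel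
theorem fourE7 : ∀ b < chevE7.nroots, ∃ s ∈ FE7, HMatDiagAll.expo chevE7 s b % 4 ≠ 0 := by decide +kernel
theorem fourE8 : ∀ b < chevE8.nroots, ∃ s ∈ FE8, HMatDiagAll.expo chevE8 s b % 4 ≠ 0 := by decide +kernel

theorem memF4 : ∀ j, sF4 j ∈ FF4 := by decide
theorem memE6 : ∀ j, sE6 j ∈ FE6 := by decide
theorem memE7 : ∀ j, sE7 j ∈ FE7 := by decide
theorem memE8 : ∀ j, sE8 j ∈ FE8 := by decide

theorem surF4 : ∀ b ∈ FF4, ∃ j, sF4 j = b := by decide
theorem surE6 : ∀ b ∈ FE6, ∃ j, sE6 j = b := by decide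
theorem surE7 : ∀ b ∈ FE7, ∃ j, sE7 j = b := by decide
theorem surE8 : ∀ b ∈ FE8, ∃ j, sE8 j = b := by decide

theorem evF4 : ∀ s ∈ FF4, ∀ b ∈ FF4, HMatDiagAll.expo chevF4 s b % 2 = 0 := by decide +kernel
theorem evE6 : ∀ s ∈ FE6, ∀ b ∈ FE6, HMatDiagAll.expo chevE6 s b % 2 = 0 := by decide +kernel
theorem evE7 : ∀ s ∈ FE7, ∀ b ∈ FE7, HMatDiagAll.expo chevE7 s b % 2 = 0 := by decide +kernel
theorem evE8 : ∀ s ∈ FE8, ∀ b ∈ FE8, HMatDiagAll.expo chevE8 s b % 2 = 0 := by decide +kernel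

theorem fsFE6 : ∀ s ∈ FE6, ∀ i : Fin 6, fs chevE6 6 s (rhoL chevE6 6 FE6 (sr i)) = -fs chevE6 6 s (sr i) := by
  decide +kernel
theorem fsFE6' : ∀ s ∈ FE6, ∀ i : Fin 6, fs chevE6 6 s ((permE rho6).symm (sr i)) = fs chevE6 6 s (sr i) := by
  decide +kernel

theorem unimod7 : ∀ s ∈ LE7 ++ FE7, ∃ j : Fin 7, vec chevE7 7 s j = 1 ∨ vec chevE7 7 s j = -1 := by decide +kernel

end Cfsg.Agent.H550.RX
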