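import Cfsg.Agent.H550.RX.FinB
import Cfsg.Agent.H550.RX.Tab
import Cfsg.Agent.H554.RX.Perm
import Cfsg.Agent.H554.BS.Rows
import Cfsg.Agent.H554.RX.Frames
import Cfsg.Agent.H565.RX.Seven
import Cfsg.Agent.H808.RX.Rel

/-!
# Box R3 of TEAM RV, exceptional groups: `TwoN` for the four types (helper550)
-/

set_option autoImplicit false
set_option linter.unusedSectionVars false

namespace Cfsg.Agent.H550.RX

open CoxeterSystem Cfsg Cfsg.Lie Cfsg.Lie.ChevalleyDatum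
open Cfsg.Agent.ChevalleyStructure Cfsg.Agent.ChevalleyStructure.Elts Cfsg.Agent.ChevalleyStructure.CoxeterGeom
  Cfsg.Agent.ChevalleyStructure.CoxeterGeomTypes Cfsg.Agent.ChevalleyStructure.NPerm
open Cfsg.Agent.Tits.Roots Cfsg.Agent.Tits.Core Cfsg.Agent.Nodes Cfsg.Agent.Nodes.Reps Cfsg.Agent.Nodes.BNOf
  Cfsg.Agent.Nodes.RGDChev Cfsg.Agent.Nodes.Bruhat Cfsg.Agent.Nodes.NormalForm
open Cfsg.Agent.KFacts.RgdField Cfsg.Agent.KFacts.RgdChevCoord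
open Cfsg.Agent.BpExc Cfsg.Agent.BpExc.TorCent Cfsg.Agent.BpExc.TorChev Cfsg.Agent.BpExc.Tow
  Cfsg.Agent.BpExc.TowChev Cfsg.Agent.BpExc.Fr Cfsg.Agent.BpExc.Pair Cfsg.Agent.BpExc.LangFr Cfsg.Agent.GpExc.Field
  Cfsg.Agent.BpExc.TorAll
open Cfsg.Agent.H469.Exc Cfsg.Agent.H469.Exc.SigFr
open Cfsg.Agent.Nodes.RGDFoldSL
open Cfsg.Agent.ChevalleyStructure.SL2Hom (up lo mem_closure_SL2)
open Cfsg.Agent.H167.EX Cfsg.Agent.H554.BS Cfsg.Agent.H554.RX Cfsg.Agent.H971.RV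
open Cfsg.Agent.H565.RX (third fourth tau7 tau8 odd_fix7 odd_fix8)

universe u v w

variable {k : Type u} [Field k] [IsAlgClosed k] (h2 : (2 : k) ≠ 0) (p : ℕ) [Fact p.Prime] [CharP k p] (hk : LocFin k)
  {i : k} (hi : i * i = -1)

section gen

variable {D : ChevalleyDatum} {l : ℕ} {M : CoxeterMatrix (Fin l)} (hp : IsType D l M)

include h2 hk hi in
/-- `m = 4` -/
theorem twoN_four (hc : cnt D l = true) {L1 : List ℕ} {g : ℕ → ℕ} (C : Chk D L1 g) (hL1 : ∀ d ∈ L1, d < D.nroots)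
    (htwo : ∀ d ∈ L1, two D d = true) {FF : List ℕ} (hFF : ∀ s ∈ FF, s < D.nroots)
    (hgood : ∀ s ∈ FF, good D s = true) (htA : ∀ s ∈ FF, H808.RV.tabA D s = true)
    (htB : ∀ s ∈ FF, H808.RV.tabB D s = true)
    (hfour : ∀ b < D.nroots, ∃ s ∈ FF, HMatDiagAll.expo D s b % 4 ≠ 0)
    {s : Fin 4 → ℕ} (hs : ∀ j, s j < D.nroots) (hsF : ∀ j, s j ∈ FF) (hFs : ∀ b ∈ FF, ∃ j, s j = b)
    (O : FrA (fun j => ph hp k (hs j)) (TT D k)) : TwoN p (XF hp k i L1 FF) (fun _ => True) (TT D k) := by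
  refine twoN_core hp h2 p hk (hAlg_of_locFin hk p) hc C hL1 htwo hi hFF hgood htA htB hfour
    (oneP hp h2 p hk (hAlg_of_locFin hk p) hc C hL1 htwo hi) hs hsF hFs (fun K P N C => KOK.perm C O h2 hi) ?_
  intro K hfin h3 hperm _ y hy hodd
  exact fix_four (ζ := fun j => zz hp (k := k) (hs j)) (fun a b h => O.zinj a b h) h3 hperm y hy hodd

include h2 hk hi in
/-- the general case -/
theorem twoN_gen (hc : cnt D l = true) {L1 : List ℕ} {g : ℕ → ℕ} (C : Chk D L1 g) (hL1 : ∀ d ∈ L1, d < D.nroots)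
    (htwo : ∀ d ∈ L1, two D d = true) {FF : List ℕ} (hFF : ∀ s ∈ FF, s < D.nroots)
    (hgood : ∀ s ∈ FF, good D s = true) (htA : ∀ s ∈ FF, H808.RV.tabA D s = true)
    (htB : ∀ s ∈ FF, H808.RV.tabB D s = true)
    (hfour : ∀ b < D.nroots, ∃ s ∈ FF, HMatDiagAll.expo D s b % 4 ≠ 0) {m : ℕ}
    {s : Fin m → ℕ} (hs : ∀ j, s j < D.nroots) (hsF : ∀ j, s j ∈ FF) (hFs : ∀ b ∈ FF, ∃ j, s j = b)
    (O : FrA (fun j => ph hp k (hs j)) (TT D k)) {τ : Fin m → Fin m}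
    (hfix : ∀ K : Subgroup ↥(D.group k), Finite K → ¬ 3 ∣ Nat.card K →
      (∀ g ∈ K, ∀ j, ∃ j', g * zz hp (k := k) (hs j) * g⁻¹ = zz hp (hs j')) →
      (∃ t ∈ K, ∀ j, t * zz hp (k := k) (hs j) * t⁻¹ = zz hp (hs (τ j))) →
      ∀ y ∈ K, Odd (orderOf y) → ∀ j, y * zz hp (k := k) (hs j) = zz hp (hs j) * y) :
    TwoN p (XF hp k i L1 FF) (fun K => ∃ t ∈ K, ∀ j, t * zz hp (k := k) (hs j) * t⁻¹ = zz hp (hs (τ j))) (TT D k) :=
  twoN_core hp h2 p hk (hAlg_of_locFin hk p) hc C hL1 htwo hi hFF hgood htA htB hfour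
    (oneP hp h2 p hk (hAlg_of_locFin hk p) hc C hL1 htwo hi) hs hsF hFs (fun K P N C => KOK.perm C O h2 hi) hfix

end gen

/-! ### relations between the involutions -/

theorem relE7 : ∀ a b : Fin 7, a ≠ b → ∀ m : Fin 7, (fs chevE7 7 (sE7 a) (sr m) + fs chevE7 7 (sE7 b) (sr m) -
    fs chevE7 7 (sE7 (third a b)) (sr m)) % 2 = 0 := by decide +kernel

theorem relE8 : ∀ a b c : Fin 8, a ≠ b → a ≠ c → b ≠ c → ∀ m : Fin 8, (fs chevE8 8 (sE8 a) (sr m) +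
    fs chevE8 8 (sE8 b) (sr m) + fs chevE8 8 (sE8 c) (sr m) - fs chevE8 8 (sE8 (fourth a b c)) (sr m)) % 2 = 0 := by
  decide +kernel

include h2 hk hi in
theorem twoN_F4 : TwoN p (XF f4T k i LF4 FF4) (fun _ => True) (TT chevF4 k) :=
  twoN_four h2 p hk hi f4T cnt_F4 chkF4 ltF4 twoF4 ltFF4 goodF4 H808.RV.tabA_F4 H808.RV.tabB_F4 fourF4 ltsF4 memF4 surF4
    (frA_F4 h2 p hk f4T ltsF4)

include h2 hk hi in
theorem twoN_E6 : TwoN p (XF e6T k i LE6 FE6) (fun _ => True) (TT chevE6 k) :=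
  twoN_four h2 p hk hi e6T cnt_E6 chkE6 ltE6 twoE6 ltFE6 goodE6 H808.RV.tabA_E6 H808.RV.tabB_E6 fourE6 ltsE6 memE6 surE6
    (frA_E6 h2 p hk e6T ltsE6)

include h2 hk hi in
theorem twoN_E7 : TwoN p (XF e7T k i LE7 FE7) (fun K => ∃ t ∈ K, ∀ j, t * zz e7T (k := k) (ltsE7 j) * t⁻¹ =
    zz e7T (ltsE7 (tau7 j))) (TT chevE7 k) := by
  refine twoN_gen h2 p hk hi e7T cnt_E7 chkE7 ltE7 twoE7 ltFE7 goodE7 H808.RV.tabA_E7 H808.RV.tabB_E7 fourE7 ltsE7 memE7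
    surE7 (frA_E7 h2 p hk e7T ltsE7) ?_
  rintro K hfin h3 hperm ⟨t, ht, hτ⟩ y hy hodd j
  exact odd_fix7 (z := fun j => zz e7T (k := k) (ltsE7 j)) (fun a b h => (frA_E7 h2 p hk e7T ltsE7).zinj a b h)
    (fun a b hab => H808.RX.zz_mul e7T hk p _ _ _ (relE7 a b hab)) h3 hperm ht hτ hy hodd j

include h2 hk hi in
theorem twoN_E8 : TwoN p (XF e8T k i LE8 FE8) (fun K => ∃ t ∈ K, ∀ j, t * zz e8T (k := k) (ltsE8 j) * t⁻¹ =
    zz e8T (ltsE8 (tau8 j))) (TT chevE8 k) := by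
  refine twoN_gen h2 p hk hi e8T cnt_E8 chkE8 ltE8 twoE8 ltFE8 goodE8 H808.RV.tabA_E8 H808.RV.tabB_E8 fourE8 ltsE8 memE8
    surE8 (frA_E8 h2 p hk e8T ltsE8) ?_
  rintro K hfin h3 hperm ⟨t, ht, hτ⟩ y hy hodd j
  exact odd_fix8 (z := fun j => zz e8T (k := k) (ltsE8 j)) (fun a b h => (frA_E8 h2 p hk e8T ltsE8).zinj a b h)
    (fun a b c hab hac hbc => H808.RX.zz_mul3 e8T hk p _ _ _ _ (relE8 a b c hab hac hbc)) h3 hperm ht hτ hy hodd j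

end Cfsg.Agent.H550.RX
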