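import Cfsg.Agent.H550.RX.FinC
import Cfsg.Agent.H408.RX.Quat

/-!
# Box R3 of TEAM RV, exceptional groups: the rows for the untwisted groups of types `F₄`, `E₇`, `E₈` (helper550)
-/

set_option autoImplicit false
set_option linter.unusedSectionVars false

namespace Cfsg.Agent.H550.RX

open CoxeterSystem Cfsg Cfsg.Lie Cfsg.Lie.ChevalleyDatum
open Cfsg.Agent.ChevalleyStructure Cfsg.Agent.ChevalleyStructure.Elts Cfsg.Agent.ChevalleyStructure.CoxeterGeom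
  Cfsg.Agent.ChevalleyStructure.CoxeterGeomTypes Cfsg.Agent.ChevalleyStructure.NPerm
open Cfsg.Agent.Tits.Roots Cfsg.Agent.Tits.Core Cfsg.Agent.Nodes Cfsg.Agent.Nodes.Reps Cfsg.Agent.Nodes.BNOf
  Cfsg.Agent.Nodes.RGDChev Cfsg.Agent.Nodes.Bruhat Cfsg.Agent.Nodes.NormalForm
open Cfsg.Agent.KFacts.RgdField Cfsg.Agent.KFacts.RgdChevCoord
open Cfsg.Agent.BpExc Cfsg.Agent.BpExc.TorCent Cfsg.Agent.BpExc.TorChev Cfsg.Agent.BpExc.Tow
  Cfsg.Agent.BpExc.TowChev Cfsg.Agent.BpExc.Fr Cfsg.Agent.BpExc.Pair Cfsg.Agent.BpExc.LangFr Cfsg.Agent.GpExc.Field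
  Cfsg.Agent.BpExc.TorAll
open Cfsg.Agent.H469.Exc Cfsg.Agent.H469.Exc.SigFr
open Cfsg.Agent.Nodes.RGDFoldSL
open Cfsg.Agent.ChevalleyStructure.SL2Hom (up lo mem_closure_SL2)
open Cfsg.Agent.H167.EX Cfsg.Agent.H795.LangT Cfsg.Agent.H129.TorusChar Cfsg.Agent.H129.TorusUntw
open Cfsg.Agent.H554.BS Cfsg.Agent.H988.CPi
open scoped commutatorElement Pointwise

universe u v w

/-- the 2-subgroup containing an element acting as `τ` -/
theorem ext_tau {S : Type v} [Group S] [Finite S] {Γ : Type u} [Group Γ] {f : S →* Γ} (hf : Function.Injective f)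
    {z : Γ} {m : ℕ} {ζ : Fin m → Γ} (hzc : ∀ j, z * ζ j = ζ j * z) (hmem : ∀ j, ∃ a, f a = ζ j) {τ : Fin m → Fin m}
    (hτ : ∀ j, τ (τ j) = j) {n : S} (hn : ∀ j, f n * ζ j * (f n)⁻¹ = ζ (τ j)) (Q : Subgroup S) (hQ : IsPGroup 2 Q)
    (hQz : ∀ a ∈ Q, ∀ j, (z⁻¹ * f a * z) * ζ j = ζ j * (z⁻¹ * f a * z)) :
    ∃ R : Subgroup S, IsPGroup 2 R ∧ Q ≤ R ∧
      ∀ K : Subgroup Γ, (∀ a ∈ R, z⁻¹ * f a * z ∈ K) → ∃ t ∈ K, ∀ j, t * ζ j * t⁻¹ = ζ (τ j) := by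
  choose a ha using hmem
  have hz' : ∀ j, z * ζ j * z⁻¹ = ζ j := fun j => by rw [hzc, mul_inv_cancel_right]
  have hz'' : ∀ j, z⁻¹ * ζ j * z = ζ j := fun j => by
    conv_lhs => rw [← hz' j]
    group
  obtain ⟨P, hP, hQP, t, ht, htτ⟩ := Cfsg.Agent.H565.RX.exists_two (z := a) hτ (n := n) (fun j => by
    apply hf
    rw [map_mul, map_mul, map_inv, ha, ha, hn]) hQ (fun q hq j => by
    apply hf
    rw [map_mul, map_mul, ha]
    have h1 := hQz q hq j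
    calc f q * ζ j = z * (z⁻¹ * f q * z * (z⁻¹ * ζ j * z)) * z⁻¹ := by group
      _ = z * (z⁻¹ * f q * z * ζ j) * z⁻¹ := by rw [hz'']
      _ = z * (ζ j * (z⁻¹ * f q * z)) * z⁻¹ := by rw [h1]
      _ = (z * ζ j * z⁻¹) * f q := by group
      _ = ζ j * f q := by rw [hz'])
  refine ⟨P, hP, hQP, fun K hK => ⟨_, hK t ht, fun j => ?_⟩⟩
  have h1 : f t * ζ j * (f t)⁻¹ = ζ (τ j) := by
    rw [← ha, ← ha, ← htτ, map_mul, map_mul, map_inv]
  calc z⁻¹ * f t * z * ζ j * (z⁻¹ * f t * z)⁻¹ = z⁻¹ * (f t * (z * ζ j * z⁻¹) * (f t)⁻¹) * z := by group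
    _ = z⁻¹ * ζ (τ j) * z := by rw [hz', h1]
    _ = ζ (τ j) := hz'' _

variable {D : ChevalleyDatum} {l : ℕ} {M : CoxeterMatrix (Fin l)} (hp : IsType D l M)

/-- **The rows for `F₄`, `E₇`, `E₈`.** -/
theorem row_untw {F : Type} [Field F] [Fintype F] {p : ℕ} (hpp : p.Prime) [hFp : CharP F p] {π : Set ℕ} (h2π : 2 ∈ π)
    (h3π : 3 ∉ π) (hpπ : p ∉ π) {S : Type v} [Group S] [Finite S] (hEπ : IsEPiGroup π S)
    (hS : Nonempty (S ≃* D.group F)) {L1 FF : List ℕ} (hL1 : ∀ s ∈ L1, s < D.nroots)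
    (hFF : ∀ s ∈ FF, s < D.nroots) (hnd : FF.Nodup) (hO : H808.RV.tabO D FF = true)
    (hev : ∀ s ∈ FF, ∀ b ∈ FF, HMatDiagAll.expo D s b % 2 = 0)
    (hrho : ∀ i : Fin l, rhoL D l FF (sr i) = -sr i)
    {m : ℕ} {s : Fin m → ℕ} (hs : ∀ j, s j < D.nroots) (hsF : ∀ j, s j ∈ FF)
    {τ : Fin m → Fin m} (hτ : ∀ j, τ (τ j) = j)
    (hdata : ∀ [Fact p.Prime] [CharP (AlgebraicClosure F) p] (_ : LocFin (AlgebraicClosure F)) (e : ℕ) (_ : 0 < e)
      (_ : Fintype.card F = p ^ e) (_ : (2 : AlgebraicClosure F) ≠ 0) (i : AlgebraicClosure F) (_ : i * i = -1),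
      H1 hp p e (algebraMap F (AlgebraicClosure F)) i L1 ∧
      (∃ n : ↥(D.group F), ∀ j, emb hp.inList (algebraMap F (AlgebraicClosure F)) n *
        zz hp (k := AlgebraicClosure F) (hs j) * (emb hp.inList (algebraMap F (AlgebraicClosure F)) n)⁻¹ =
          zz hp (hs (τ j))) ∧
      TwoN p (XF hp (AlgebraicClosure F) i L1 FF) (fun K => ∃ t ∈ K, ∀ j, t * zz hp (hs j) * t⁻¹ = zz hp (hs (τ j)))
        (TT D (AlgebraicClosure F))) : H959.RV.FTwo π S := by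
  have := Fact.mk hpp
  obtain ⟨p', e, hp', hpF', hpk', he, hq, hk⟩ := exists_closure (F := F) rfl
  have hpe : p' = p := CharP.eq F hpF' hFp
  subst hpe
  set k := AlgebraicClosure F with hkdef
  have hp2 : p' ≠ 2 := fun h => hpπ (h ▸ h2π)
  have h2 : (2 : k) ≠ 0 := by
    intro h
    have h1 : p' ∣ 2 := (CharP.cast_eq_zero_iff k p' 2).1 (by exact_mod_cast h)
    exact hp2 ((Nat.prime_dvd_prime_iff_eq hpp Nat.prime_two).1 h1)
  obtain ⟨i, hi⟩ := exists_i k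
  obtain ⟨hH1, ⟨n, hn⟩, hcore⟩ := hdata hk e he hq h2 i hi
  have hodd : Odd (p' ^ e) := (hpp.eq_two_or_odd'.resolve_left hp2).pow
  obtain ⟨ε, hε, h4⟩ := exists_eps hodd
  have h4' : (4 : ℤ) ∣ (p' : ℤ) ^ e - ε := by rw [← Nat.cast_pow]; exact h4
  -- the list of reflections
  obtain ⟨L, hLF, hL0, hL1', hLr⟩ : ∃ L : List ℕ, (∀ s ∈ L, s ∈ FF) ∧ (ε = 1 → L = []) ∧ (ε = -1 → L = FF) ∧
      ∀ x, rhoL D l L x = ε • x := by
    rcases hε with rfl | rfl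
    · exact ⟨[], fun s hs => absurd hs List.not_mem_nil, fun _ => rfl, fun h => absurd h (by norm_num),
        fun x => (one_smul ℤ x).symm⟩
    · refine ⟨FF, fun s hs => hs, fun h => absurd h (by norm_num), fun _ => rfl, fun x => ?_⟩
      exact addHom_ext (f := rhoM D l FF) (g := AddMonoidHom.mk' (fun x => (-1 : ℤ) • x) (fun x y => smul_add _ x y))
        (fun i => by
          rw [rhoM_apply, hrho]
          show -sr i = (-1 : ℤ) • sr i
          rw [neg_smul, one_smul]) x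
  have hLn : ∀ s ∈ L, s < D.nroots := fun s hs => hFF s (hLF s hs)
  have hLor : L = [] ∨ L = FF := hε.imp hL0 hL1'
  obtain ⟨z, hz, -, hzc⟩ := exists_twist_Z hp hk he (isFrob_phi (D := D) (k := k) (p := p') (e := e))
    (fr_phi hp M.toCoxeterSystem) hLF (L1 := FF) (fun s hs => ⟨hFF s hs, rfl⟩)
  have hzz : ∀ b (hb : b ∈ FF), z * zz hp (k := k) (hFF b hb) = zz hp (hFF b hb) * z := by
    intro b hb
    refine hzc _ (zz_mem hp _) fun s' hs' => ?_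
    unfold zz
    rw [ch_ph_hS hp (hFF b hb) p' hk (neg_ne_zero.2 one_ne_zero) (hFF s' hs')]
    exact Even.neg_one_zpow (Int.even_iff.2 (hev b hb s' hs'))
  let f0 := algebraMap F k
  obtain ⟨φ⟩ := hS
  let f : S →* ↥(D.group k) := (emb hp.inList f0).comp φ.toMonoidHom
  have hf : Function.Injective f := (emb_injective hp.inList f0).comp φ.injective
  have hfr : ∀ y, y ∈ (emb hp.inList f0).range → ∃ a, f a = y := by
    rintro _ ⟨y, rfl⟩
    refine ⟨φ.symm y, ?_⟩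
    show emb hp.inList f0 (φ (φ.symm y)) = _
    rw [MulEquiv.apply_symm_apply]
  have hort := H408.RX.ort_of_tabO hp (k := k) hFF hO
  refine fTwo_gen hp p' hk h2π h3π hpπ hi hFF hO hEπ hf (z := z) (L1 := L1) ?_ ?_ ?_ hcore ?_
  · intro d hd
    rw [xd_lt hp (hL1 d hd)]
    exact hfr _ (hH1 ε hε h4' z (fun t ht => by
      rw [hz]; exact (cX_wL hp hk p' L hLn t ht).1) (fun t ht x => by
      rw [hz, (cX_wL hp hk p' L hLn t ht).2, hLr]) d hd (hL1 d hd))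
  · intro d hd
    rw [xd_lt hp (hFF d hd)]
    exact hfr _ (H408.RX.hS_mem hp f0 h2 he hq hFF hnd hort hε h4' hL0 hL1' hz hi hd)
  · intro d hd
    rw [wE_eq hp (hFF d hd)]
    exact hfr _ (H408.RX.wS_mem hp f0 h2 he hq hFF hnd hort hLor hz hd)
  · intro Q hQ hQz
    have hζ : ∀ j, zz hp (k := k) (hs j) = zz hp (hFF (s j) (hsF j)) := fun j => rfl
    have hn' : f (φ.symm n) = emb hp.inList f0 n := by
      show emb hp.inList f0 (φ (φ.symm n)) = _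
      rw [MulEquiv.apply_symm_apply]
    refine ext_tau hf (ζ := fun j => zz hp (k := k) (hs j)) (fun j => hzz (s j) (hsF j)) (fun j => ?_) hτ
      (n := φ.symm n) (fun j => ?_) Q hQ (fun a ha j => hQz a ha (s j) (hsF j))
    · exact hfr _ ⟨zz hp (hs j), zz_emb hp (hs j) f0⟩
    · rw [hn']
      exact hn j

theorem twoN_mono {Γ : Type v} [Group Γ] {p : ℕ} {X : Set Γ} {E E' : Subgroup Γ → Prop} {T : Subgroup Γ}
    (h : TwoN p X E T) (hE : ∀ K, E' K → E K) : TwoN p X E' T :=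
  fun K hf h3 hp hX hE' => h K hf h3 hp hX (hE K hE')

variable {S : Type v} [Group S] {π : Set ℕ}

/-- **Row `F₄`.** -/
theorem f4_3 (h2π : 2 ∈ π) (h3π : 3 ∉ π) (p : ℕ) (hpp : p.Prime) (hpπ : p ∉ π) (F : Type) [Field F] [Fintype F]
    [CharP F p] (hS : Nonempty (S ≃* chevF4.group F)) (hEπ : IsEPiGroup π S) : H959.RV.FTwo π S := by
  have : Finite S := Finite.of_equiv _ hS.some.symm.toEquiv
  refine row_untw H971.RV.f4T hpp h2π h3π hpπ hEπ hS ltF4 ltFF4 H408.RX.nodup_F4 H808.RV.tabO_F4 evF4 rhoF4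
    H971.RV.ltsF4 memF4 (τ := id) (fun _ => rfl) fun hk e he hq h2 i hi => ⟨?_, ⟨1, fun j => ?_⟩, ?_⟩
  · exact h1_odd H971.RV.f4T hk _ he hq invC_F4 one_ne_zero (Or.inl rfl) (by norm_num) hi _
  · rw [map_one, one_mul, inv_one, mul_one]
  · exact twoN_mono (twoN_F4 h2 p hk hi) fun _ _ => trivial

end Cfsg.Agent.H550.RX
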