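import Cfsg.Agent.H550.RX.FinD
import Cfsg.Agent.H565.RX.Tau

/-!
# Box R3 of TEAM RV, exceptional groups: the rows `E₇`, `E₈` (helper550)
-/

set_option autoImplicit false
set_option linter.unusedSectionVars false

namespace Cfsg.Agent.H550.RX

open CoxeterSystem Cfsg Cfsg.Lie Cfsg.Lie.ChevalleyDatum
open Cfsg.Agent.ChevalleyStructure Cfsg.Agent.ChevalleyStructure.Elts Cfsg.Agent.ChevalleyStructure.CoxeterGeom
  Cfsg.Agent.ChevalleyStructure.CoxeterGeomTypes Cfsg.Agent.ChevalleyStructure.NPerm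
open Cfsg.Agent.Tits.Roots Cfsg.Agent.Tits.Core Cfsg.Agent.Nodes Cfsg.Agent.Nodes.Reps Cfsg.Agent.Nodes.BNOf
  Cfsg.Agent.Nodes.RGDChev Cfsg.Agent.Nodes.Bruhat Cfsg.Agent.Nodes.NormalForm
open Cfsg.Agent.BpExc Cfsg.Agent.BpExc.TorCent Cfsg.Agent.BpExc.TorChev Cfsg.Agent.BpExc.Tow
  Cfsg.Agent.BpExc.TowChev Cfsg.Agent.BpExc.Fr Cfsg.Agent.BpExc.Pair Cfsg.Agent.BpExc.LangFr Cfsg.Agent.GpExc.Field
  Cfsg.Agent.BpExc.TorAll
open Cfsg.Agent.Nodes.RGDFoldSL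
open Cfsg.Agent.H167.EX Cfsg.Agent.H795.LangT Cfsg.Agent.H129.TorusChar Cfsg.Agent.H129.TorusUntw
open Cfsg.Agent.H554.BS Cfsg.Agent.H988.CPi
open Cfsg.Agent.H565.RX (tau7 tau8 nW w7 w8 conj7 conj8 emb_nW tau7_tau7 tau8_tau8)

universe v

variable {S : Type v} [Group S] {π : Set ℕ}

/-- **Row `E₈`.** -/
theorem e8_3 (h2π : 2 ∈ π) (h3π : 3 ∉ π) (p : ℕ) (hpp : p.Prime) (hpπ : p ∉ π) (F : Type) [Field F] [Fintype F]
    [CharP F p] (hS : Nonempty (S ≃* chevE8.group F)) (hEπ : IsEPiGroup π S) : H959.RV.FTwo π S := by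
  have : Finite S := Finite.of_equiv _ hS.some.symm.toEquiv
  refine row_untw H971.RV.e8T hpp h2π h3π hpπ hEπ hS ltE8 ltFE8 H408.RX.nodup_E8 H808.RV.tabO_E8 evE8 rhoE8
    H971.RV.ltsE8 memE8 (τ := tau8) tau8_tau8 fun hk e he hq h2 i hi => ⟨?_, ⟨nW H971.RV.e8T F w8, fun j => ?_⟩, ?_⟩
  · exact h1_odd H971.RV.e8T hk _ he hq invC_E8 one_ne_zero (Or.inl rfl) (by norm_num) hi _
  · rw [emb_nW]
    exact conj8 H971.RV.e8T j
  · exact twoN_E8 h2 p hk hi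

/-- **Row `E₇`.** -/
theorem e7_3 (h2π : 2 ∈ π) (h3π : 3 ∉ π) (p : ℕ) (hpp : p.Prime) (hpπ : p ∉ π) (F : Type) [Field F] [Fintype F]
    [CharP F p] (hS : Nonempty (S ≃* chevE7.group F)) (hEπ : IsEPiGroup π S) : H959.RV.FTwo π S := by
  have : Finite S := Finite.of_equiv _ hS.some.symm.toEquiv
  refine row_untw H971.RV.e7T hpp h2π h3π hpπ hEπ hS ltE7 ltFE7 H408.RX.nodup_E7 H808.RV.tabO_E7 evE7 rhoE7
    H971.RV.ltsE7 memE7 (τ := tau7) tau7_tau7 fun hk e he hq h2 i hi => ⟨?_, ⟨nW H971.RV.e7T F w7, fun j => ?_⟩, ?_⟩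
  · intro ε hε h4 z hzT hzX s hs hlt
    obtain ⟨j, hj⟩ := unimod_E7 s hs
    refine H14.CommRange.comm_mem_range H971.RV.e7T _ hk he hq invC_E7 two_ne_zero h2 hi hε h4 hzT hzX hlt
      (fun j' => if j' = j then vec chevE7 7 s j else 0) ?_
    rw [Finset.sum_eq_single j]
    · rw [if_pos rfl]
      rcases hj with h | h <;> rw [h] <;> norm_num
    · intro b _ hb
      rw [if_neg hb, zero_mul]
    · intro h
      exact absurd (Finset.mem_univ j) h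
  · rw [emb_nW]
    exact conj7 H971.RV.e7T j
  · exact twoN_E7 h2 p hk hi

end Cfsg.Agent.H550.RX
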