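import Cfsg.Agent.H550.RX.CentNorm
import Cfsg.Agent.H554.BS.SLTwo
import Cfsg.Agent.S0071

/-!
# Finite subgroups of `SL₂(k)` of order prime to 3 and to the characteristic (helper550, box R3 of TEAM RV)

* `comm_of_conj` : `b` of odd order, `b a b⁻¹` commutes with `a` ⟹ `b` commutes with `a`;
* `odd_abel` : subgroups of odd order are abelian;
* `comm_two_gen` : elements of odd order, prime to 3, normalising a finite 2-subgroup centralise it;
* `exists_odd_part` : the elements of odd order form an abelian subgroup with 2-power index.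
-/

set_option autoImplicit false
set_option linter.unusedSectionVars false

namespace Cfsg.Agent.H550.RX

open Subgroup Cfsg Cfsg.Agent.H167.EX
open Cfsg.Agent.Nodes.RGDFoldSL (wS hS coe_wS coe_hS)
open Cfsg.Agent.ChevalleyStructure.SL2Hom (up lo)

universe u v

variable {k : Type u} [Field k]

theorem fin_map {G : Type*} [Group G] {H : Type*} [Group H] (f : G →* H) (K : Subgroup G) [Finite K] :
    Finite (K.map f) := by
  have h : (K : Set G).Finite := Set.toFinite _
  exact Set.Finite.to_subtype (h.image f)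

/-- commuting with a non-scalar matrix -/
theorem exists_scal {Z A : SL k} (hA : A * Z = Z * A) (hZ : ¬ ∀ P : SL k, Z * P = P * Z) :
    ∃ c : k, A.1 0 1 = c * Z.1 0 1 ∧ A.1 1 0 = c * Z.1 1 0 ∧ A.1 0 0 - A.1 1 1 = c * (Z.1 0 0 - Z.1 1 1) := by
  have hne : ¬ (Z.1 0 1 = 0 ∧ Z.1 1 0 = 0 ∧ Z.1 0 0 - Z.1 1 1 = 0) := by
    rintro ⟨h1, h2, h3⟩
    apply hZ
    intro P
    refine sl_ext ?_ ?_ ?_ ?_
    · rw [mul00, mul00, h1, h2]; ring
    · rw [mul01, mul01, h1]; linear_combination P.1 0 1 * h3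
    · rw [mul10, mul10, h2]; linear_combination -P.1 1 0 * h3
    · rw [mul11, mul11, h1, h2]; ring
  have a1 : (A * Z).1 0 0 = (Z * A).1 0 0 := by rw [hA]
  have a2 : (A * Z).1 0 1 = (Z * A).1 0 1 := by rw [hA]
  have a3 : (A * Z).1 1 0 = (Z * A).1 1 0 := by rw [hA]
  rw [mul00, mul00] at a1
  rw [mul01, mul01] at a2
  rw [mul10, mul10] at a3
  refine prop_of ?_ ?_ ?_ hne
  · linear_combination a1
  · linear_combination -a2
  · linear_combination a3

/-- elements of trace `±2` and of finite order prime to the characteristic are central -/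
theorem central_of_tr {A : SL k} {ε : k} (hε : ε * ε = 1) (htr : A.1 0 0 + A.1 1 1 = 2 * ε) {n : ℕ} (hn : (n : k) ≠ 0)
    (hA : A ^ n = 1) (P : SL k) : A * P = P * A := by
  have hdet := det_eq A
  have hε0 : ε ≠ 0 := by rintro rfl; rw [mul_zero] at hε; exact zero_ne_one hε
  -- the powers
  have hpow : ∀ m : ℕ, (A ^ m).1 0 1 * ε = (m : k) * ε ^ m * A.1 0 1 ∧ (A ^ m).1 1 0 * ε = (m : k) * ε ^ m * A.1 1 0 ∧
      (A ^ m).1 0 0 * ε = ε ^ m * ε + (m : k) * ε ^ m * (A.1 0 0 - ε) ∧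
      (A ^ m).1 1 1 * ε = ε ^ m * ε + (m : k) * ε ^ m * (A.1 1 1 - ε) := by
    intro m
    induction m with
    | zero =>
      rw [pow_zero, pow_zero]
      have e1 : (1 : SL k).1 0 1 = 0 := rfl
      have e2 : (1 : SL k).1 1 0 = 0 := rfl
      have e3 : (1 : SL k).1 0 0 = 1 := rfl
      have e4 : (1 : SL k).1 1 1 = 1 := rfl
      rw [e1, e2, e3, e4]
      refine ⟨?_, ?_, ?_, ?_⟩ <;> simp
    | succ m ih =>
      obtain ⟨b1, b2, b3, b4⟩ := ih
      have hd : A.1 1 1 = 2 * ε - A.1 0 0 := by linear_combination htr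
      have hq : A.1 0 1 * A.1 1 0 = A.1 0 0 * A.1 1 1 - 1 := by linear_combination -hdet
      rw [pow_succ A, mul00, mul01, mul10, mul11]
      refine ⟨?_, ?_, ?_, ?_⟩
      · push_cast
        rw [pow_succ]
        linear_combination A.1 0 1 * b3 + A.1 1 1 * b1 + (m : k) * ε ^ m * A.1 0 1 * htr + 0 * hε
      · push_cast
        rw [pow_succ]
        linear_combination A.1 0 0 * b2 + A.1 1 0 * b4 + (m : k) * ε ^ m * A.1 1 0 * htr
      · push_cast
        rw [pow_succ]
        linear_combination A.1 0 0 * b3 + A.1 1 0 * b1 + (m : k) * ε ^ m * A.1 0 0 * htr -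
          (m : k) * ε ^ m * hdet + (m : k) * ε ^ m * hε
      · push_cast
        rw [pow_succ]
        linear_combination A.1 0 1 * b2 + A.1 1 1 * b4 + (m : k) * ε ^ m * A.1 1 1 * htr -
          (m : k) * ε ^ m * hdet + (m : k) * ε ^ m * hε
  obtain ⟨b1, b2, b3, b4⟩ := hpow n
  have hεn : ε ^ n ≠ 0 := pow_ne_zero _ hε0
  rw [hA] at b1 b2
  have e1 : (1 : SL k).1 0 1 = 0 := rfl
  have e2 : (1 : SL k).1 1 0 = 0 := rfl
  rw [e1, zero_mul] at b1
  rw [e2, zero_mul] at b2
  have h01 : A.1 0 1 = 0 := by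
    rcases mul_eq_zero.1 b1.symm with h | h
    · exact absurd h (mul_ne_zero hn hεn)
    · exact h
  have h10 : A.1 1 0 = 0 := by
    rcases mul_eq_zero.1 b2.symm with h | h
    · exact absurd h (mul_ne_zero hn hεn)
    · exact h
  have h00 : (A.1 0 0 - ε) * (A.1 0 0 - ε) = 0 := by
    rw [h01, h10] at hdet
    have hd : A.1 1 1 = 2 * ε - A.1 0 0 := by linear_combination htr
    rw [hd] at hdet
    linear_combination hε - hdet
  have h00' : A.1 0 0 = ε := by
    rcases mul_eq_zero.1 h00 with h | h <;> exact sub_eq_zero.1 h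
  have h11 : A.1 1 1 = ε := by linear_combination htr - h00'
  refine sl_ext ?_ ?_ ?_ ?_
  · rw [mul00, mul00, h01, h10, h00']; ring
  · rw [mul01, mul01, h01, h00', h11]; ring
  · rw [mul10, mul10, h10, h00', h11]; ring
  · rw [mul11, mul11, h01, h10, h11]; ring

/-- **`b a b⁻¹` commutes with `a`, `b` of odd order ⟹ `b` commutes with `a`.** -/
theorem comm_of_conj (h2 : (2 : k) ≠ 0) {a b : SL k} (ha : ¬ ∀ P : SL k, a * P = P * a) {n : ℕ} (hn : (n : k) ≠ 0)
    (han : a ^ n = 1) {m : ℕ} (hm : Odd m) (hb : b ^ m = 1) (hc : b * a * b⁻¹ * a = a * (b * a * b⁻¹)) :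
    b * a = a * b := by
  obtain ⟨c, c1, c2, c3⟩ := exists_scal hc ha
  have htr := tr_conj b a
  have hd1 := det_eq a
  have hd2 := det_eq (b * a * b⁻¹)
  set a' := b * a * b⁻¹ with ha'
  set τ := a.1 0 0 + a.1 1 1 with hτ
  have hτ4 : τ * τ - 4 ≠ 0 := by
    intro h
    apply ha
    have h5 : (τ / 2) * (τ / 2) = 1 := by
      field_simp
      linear_combination h
    exact central_of_tr (ε := τ / 2) h5 (by rw [← hτ]; field_simp) hn han
  have hcc : c * c = 1 := by
    have e1 : (a'.1 0 0 - a'.1 1 1) * (a'.1 0 0 - a'.1 1 1) + 4 * (a'.1 0 1 * a'.1 1 0) = τ * τ - 4 := by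
      have : a'.1 0 0 + a'.1 1 1 = τ := htr
      linear_combination (a'.1 0 0 + a'.1 1 1 + τ) * this - 4 * hd2
    have e2 : (a.1 0 0 - a.1 1 1) * (a.1 0 0 - a.1 1 1) + 4 * (a.1 0 1 * a.1 1 0) = τ * τ - 4 := by
      rw [hτ]
      linear_combination -4 * hd1
    rw [c1, c2, c3] at e1
    have e3 : (c * c - 1) * (τ * τ - 4) = 0 := by
      linear_combination e1 - c * c * e2
    rcases mul_eq_zero.1 e3 with h | h
    · exact sub_eq_zero.1 h
    · exact absurd h hτ4
  have hsum : a'.1 0 0 + a'.1 1 1 = a.1 0 0 + a.1 1 1 := htr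
  have hc' : (c - 1) * (c + 1) = 0 := by linear_combination hcc
  rcases mul_eq_zero.1 hc' with h | h
  · -- `a' = a`
    have hc1 : c = 1 := sub_eq_zero.1 h
    rw [hc1] at c1 c2 c3
    have e : a' = a := by
      refine sl_ext ?_ ?_ ?_ ?_
      · have h6 : 2 * (a'.1 0 0 - a.1 0 0) = 0 := by linear_combination hsum + c3
        exact sub_eq_zero.1 ((mul_eq_zero.1 h6).resolve_left h2)
      · rw [c1, one_mul]
      · rw [c2, one_mul]
      · have h6 : 2 * (a'.1 1 1 - a.1 1 1) = 0 := by linear_combination hsum - c3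
        exact sub_eq_zero.1 ((mul_eq_zero.1 h6).resolve_left h2)
    rw [ha'] at e
    exact mul_inv_eq_iff_eq_mul.1 e
  · have hc1 : c = -1 := eq_neg_of_add_eq_zero_left h
    rw [hc1] at c1 c2 c3
    have e : a' = a⁻¹ := by
      refine sl_ext ?_ ?_ ?_ ?_
      · rw [inv00]
        have h6 : 2 * (a'.1 0 0 - a.1 1 1) = 0 := by linear_combination hsum + c3
        exact sub_eq_zero.1 ((mul_eq_zero.1 h6).resolve_left h2)
      · rw [inv01, c1, neg_one_mul]
      · rw [inv10, c2, neg_one_mul]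
      · rw [inv11]
        have h6 : 2 * (a'.1 1 1 - a.1 0 0) = 0 := by linear_combination hsum - c3
        exact sub_eq_zero.1 ((mul_eq_zero.1 h6).resolve_left h2)
    have h7 : b * a * b⁻¹ = a⁻¹ := e
    have h8 : Commute (b ^ 2) a := by
      show b ^ 2 * a = a * b ^ 2
      have h9 : b * a⁻¹ * b⁻¹ = a := by
        have h12 := congrArg (fun x => x⁻¹) h7
        simp only [mul_inv_rev, inv_inv] at h12
        rwa [← mul_assoc] at h12
      have h13 : b ^ 2 * a * (b ^ 2)⁻¹ = b * (b * a * b⁻¹) * b⁻¹ := by rw [pow_two]; group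
      rw [h7, h9] at h13
      exact mul_inv_eq_iff_eq_mul.1 h13
    obtain ⟨j, rfl⟩ := hm
    have h10 : b = (b ^ 2) ^ (j + 1) := by
      rw [← pow_mul]
      have : 2 * (j + 1) = (2 * j + 1) + 1 := by ring
      rw [this, pow_succ, hb, one_mul]
    have h11 : Commute ((b ^ 2) ^ (j + 1)) a := h8.pow_left _
    rw [← h10] at h11
    exact h11

/-- an element of odd order `≠ 1` is not central -/
theorem not_central {a : SL k} {m : ℕ} (hm : Odd m) (ha : a ^ m = 1) (h1 : a ≠ 1) : ¬ ∀ P : SL k, a * P = P * a :=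
  fun h => h1 (eq_one_of_odd (sq_of_central h) hm ha)

/-- **subgroups of odd order, prime to the characteristic, are abelian** -/
theorem odd_abel (h2 : (2 : k) ≠ 0) : ∀ (n : ℕ) (N : Subgroup (SL k)), Finite N → Nat.card N = n → Odd n →
    (n : k) ≠ 0 → ∀ a ∈ N, ∀ b ∈ N, a * b = b * a := by
  intro n
  induction n using Nat.strong_induction_on with
  | _ n ih =>
  intro N hfin hcard hodd hn0
  have hpow : ∀ x ∈ N, x ^ n = 1 := by
    intro x hx
    have h1 : (⟨x, hx⟩ : N) ^ Nat.card N = 1 := pow_card_eq_one'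
    rw [hcard] at h1
    exact congrArg Subtype.val h1
  -- the key: all elements commuting with one noncentral element
  have fin : ∀ z : SL k, z ≠ 1 → z ∈ N → (∀ y ∈ N, y * z = z * y) → ∀ a ∈ N, ∀ b ∈ N, a * b = b * a :=
    fun z hz hzN h a ha b hb => cent_abel (h a ha) (h b hb) (not_central hodd (hpow z hzN) hz)
  by_cases hn1 : n = 1
  · have h1 : N = ⊥ := by
      rw [← Subgroup.card_eq_one, hcard, hn1]
    intro a ha b hb
    rw [h1, mem_bot] at ha hb
    rw [ha, hb]
  obtain ⟨s, hs, hsn⟩ := Nat.exists_prime_and_dvd hn1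
  have := Fact.mk hs
  obtain ⟨P⟩ : Nonempty (Sylow s N) := inferInstance
  obtain ⟨N₁, hN₁n, hN₁c⟩ := (Cfsg.Agent.S0071.result P).2 (by
    intro Q hQP g hg hgo
    have hQ : IsPGroup s Q := P.isPGroup'.to_le hQP
    rw [mem_centralizer_iff]
    intro q hq
    by_cases hQ1 : Q = ⊥
    · subst hQ1
      have h1 : q = 1 := mem_bot.1 hq
      rw [h1, one_mul, mul_one]
    have hnt : Nontrivial Q := (Subgroup.nontrivial_iff_ne_bot Q).2 hQ1
    have hcn : Nontrivial (center Q) := hQ.center_nontrivial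
    obtain ⟨⟨z, hz⟩, hz1⟩ := exists_ne (1 : center Q)
    have hz1' : (z : SL k) ≠ 1 := by
      intro h
      apply hz1
      apply Subtype.ext
      apply Subtype.ext
      apply Subtype.ext
      exact h
    have hcz : ∀ q' : Q, q' * z = z * q' := fun q' => (mem_center_iff.1 hz q')
    -- `g` normalises `Z(Q)`
    have hgz : g * (z : N) * g⁻¹ ∈ Q := (mem_normalizer_iff.1 hg _).1 z.2
    have h3 : (g : SL k) * (z : SL k) = (z : SL k) * g := by
      refine comm_of_conj h2 (not_central hodd (hpow _ (z : N).2) hz1') hn0 (hpow _ (z : N).2) hodd (hpow _ g.2) ?_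
      have h4 := hcz ⟨_, hgz⟩
      exact congrArg (fun x : Q => ((x : N) : SL k)) h4
    have h4 := congrArg (fun x : Q => ((x : N) : SL k)) (hcz ⟨q, hq⟩)
    apply Subtype.ext
    exact cent_abel (Z := (z : SL k)) h4 h3 (not_central hodd (hpow _ (z : N).2) hz1'))
  have hcardmul := hN₁c.card_mul_card
  have hP1 : 1 < Nat.card P := by
    have h1 := P.dvd_card_of_dvd_card (by rw [hcard]; exact hsn)
    have h3 : 0 < Nat.card P := Nat.card_pos
    exact lt_of_lt_of_le hs.one_lt (Nat.le_of_dvd h3 h1)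
  have hN₁pos : 0 < Nat.card N₁ := Nat.card_pos
  have hlt : Nat.card N₁ < n := by
    rw [← hcard, ← hcardmul]
    exact lt_mul_of_one_lt_right hN₁pos hP1
  by_cases hN₁ : N₁ = ⊥
  · -- `N` is an `s`-group
    have hPt : (P : Subgroup N) = ⊤ := by
      rw [← Subgroup.card_eq_iff_eq_top, ← hcardmul, hN₁, Subgroup.card_bot, one_mul]
    have hNs : IsPGroup s N := by
      have h1 := P.isPGroup'
      rw [hPt] at h1
      exact h1.of_equiv Subgroup.topEquiv
    have hnt : Nontrivial N := by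
      rw [← Finite.one_lt_card_iff_nontrivial, hcard]
      have := hodd.pos
      omega
    have hcn : Nontrivial (center N) := hNs.center_nontrivial
    obtain ⟨⟨z, hz⟩, hz1⟩ := exists_ne (1 : center N)
    refine fin z (fun h => hz1 (Subtype.ext (Subtype.ext h))) z.2 fun y hy => ?_
    exact congrArg Subtype.val (mem_center_iff.1 hz ⟨y, hy⟩)
  · obtain ⟨a, haN, ha1⟩ : ∃ a : N, a ∈ N₁ ∧ a ≠ 1 := by
      obtain ⟨a, ha⟩ := Subgroup.ne_bot_iff_exists_ne_one.1 hN₁
      exact ⟨a, a.2, fun h' => ha (Subtype.ext h')⟩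
    have hfin1 : Finite (N₁.map N.subtype) := fin_map N.subtype N₁
    have hcd1 : Nat.card (N₁.map N.subtype) = Nat.card N₁ :=
      (Nat.card_congr (N₁.equivMapOfInjective N.subtype N.subtype_injective).toEquiv).symm
    have hdvd : Nat.card N₁ ∣ n := by rw [← hcard]; exact card_subgroup_dvd_card N₁
    have hab := ih _ hlt (N₁.map N.subtype) hfin1 hcd1 (Odd.of_dvd_nat hodd hdvd) (by
      intro h
      apply hn0
      obtain ⟨c, hc⟩ := hdvd
      rw [hc, Nat.cast_mul, h, zero_mul])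
    refine fin a (fun h => ha1 (Subtype.ext h)) (a : N).2 fun y hy => ?_
    refine comm_of_conj h2 (not_central hodd (hpow _ (a : N).2) (fun h => ha1 (Subtype.ext h))) hn0
      (hpow _ (a : N).2) hodd (hpow _ hy) ?_
    have h5 : (⟨y, hy⟩ : N) * a * (⟨y, hy⟩ : N)⁻¹ ∈ N₁ := hN₁n.conj_mem _ haN _
    exact hab _ ⟨_, h5, rfl⟩ _ ⟨_, haN, rfl⟩

/-- **an element of odd order prime to 3 which normalises a finite 2-subgroup centralises it** -/
theorem comm_two_gen (h2 : (2 : k) ≠ 0) (Q : Subgroup (SL k)) (hfin : Finite Q) (hQ : IsPGroup 2 Q) {g : SL k} {m : ℕ}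
    (hm : Odd m) (h3 : ¬ 3 ∣ m) (hg : g ^ m = 1) (hn : ∀ A ∈ Q, g * A * g⁻¹ ∈ Q) : ∀ A ∈ Q, g * A = A * g := by
  by_cases hg1 : g = 1
  · intro A _
    rw [hg1, one_mul, mul_one]
  have hdvd := orderOf_dvd_of_pow_eq_one hg
  have hodd : Odd (orderOf g) := Odd.of_dvd_nat hm hdvd
  have hne1 : orderOf g ≠ 1 := fun h => hg1 (orderOf_eq_one_iff.1 h)
  obtain ⟨s, hs, hsn⟩ := Nat.exists_prime_and_dvd hne1
  have h5 : 5 ≤ s := by
    have h6 : s ≠ 2 := by
      rintro rfl
      exact (Nat.not_even_iff_odd.2 hodd) (even_iff_two_dvd.2 hsn)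
    have h7 : s ≠ 3 := by
      rintro rfl
      exact h3 (hsn.trans hdvd)
    have h8 : s ≠ 4 := by
      rintro rfl
      exact absurd hs (by decide)
    have := hs.two_le
    omega
  obtain ⟨c, hc⟩ := hsn
  have hc0 : c ≠ 0 := by
    rintro rfl
    rw [mul_zero] at hc
    exact hodd.pos.ne' hc
  set B := g ^ c with hB
  have hBs : B ^ s = 1 := by rw [hB, ← pow_mul, mul_comm c s, ← hc, pow_orderOf_eq_one]
  have hB1 : B ≠ 1 := by
    intro h
    have h9 := orderOf_dvd_of_pow_eq_one h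
    have h10 := Nat.le_of_dvd (Nat.pos_of_ne_zero hc0) h9
    rw [hc] at h10
    have h11 : 0 < c := Nat.pos_of_ne_zero hc0
    nlinarith [hs.two_le]
  have hBn : ∀ A ∈ Q, B * A * B⁻¹ ∈ Q := H554.BS.nrm_pow' hn c
  have h6 := H554.BS.comm_of_two h2 hs h5 Q hfin hQ B hBs hBn
  intro A hA
  have hso : Odd s := hs.eq_two_or_odd'.resolve_left (by omega)
  exact cent_abel (Z := B) (by rw [hB, ← pow_succ, ← pow_succ']) (h6 A hA).symm (not_central hso hBs hB1)

/-- **The odd part of a finite subgroup of `SL₂(k)` of order prime to 3 and to the characteristic.** -/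
theorem exists_odd_part (h2 : (2 : k) ≠ 0) {Γ : Subgroup (SL k)} (hfin : Finite Γ) (h3 : ¬ 3 ∣ Nat.card Γ)
    (hn0 : (Nat.card Γ : k) ≠ 0) : ∃ N ≤ Γ, (∀ x, x ∈ N ↔ x ∈ Γ ∧ Odd (orderOf x)) ∧ (∀ a ∈ N, ∀ b ∈ N, a * b = b * a) ∧
      Odd (Nat.card N) ∧ ∀ x ∈ Γ, ∃ j : ℕ, x ^ 2 ^ j ∈ N := by
  have := Fact.mk Nat.prime_two
  obtain ⟨P⟩ : Nonempty (Sylow 2 Γ) := inferInstance
  obtain ⟨N, hNn, hNc⟩ := (Cfsg.Agent.S0071.result P).2 (by
    intro Q hQP g hg hgo
    have hQ : IsPGroup 2 Q := P.isPGroup'.to_le hQP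
    rw [mem_centralizer_iff]
    intro q hq
    have hodd : Odd (orderOf g) := Nat.coprime_two_right.1 hgo
    have h1 := comm_two_gen h2 (Q.map Γ.subtype) (fin_map _ _) (hQ.map _) (g := (g : SL k)) hodd
      (fun h => h3 (h.trans (orderOf_dvd_natCard g))) (by
        rw [← Subgroup.coe_pow, pow_orderOf_eq_one]; rfl) (by
        rintro _ ⟨A, hA, rfl⟩
        exact ⟨g * A * g⁻¹, (mem_normalizer_iff.1 hg _).1 hA, by simp⟩) q ⟨q, hq, rfl⟩
    exact Subtype.ext h1.symm)
  have hcardmul := hNc.card_mul_card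
  have hPc := P.card_eq_multiplicity
  -- the order of `N` is odd
  have hodd : Odd (Nat.card N) := by
    rw [← Nat.not_even_iff_odd, even_iff_two_dvd]
    intro h
    have h5 : Nat.card (P : Subgroup Γ) * 2 ∣ Nat.card Γ := by
      rw [← hcardmul, mul_comm]
      exact mul_dvd_mul_right h _
    have h6 : ¬ 2 ∣ (P : Subgroup Γ).index := P.not_dvd_index
    have h7 := (P : Subgroup Γ).card_mul_index
    rw [← h7] at h5
    exact h6 (Nat.dvd_of_mul_dvd_mul_left Nat.card_pos h5)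
  have hNidx : N.index = Nat.card P := by
    have h5 := N.card_mul_index
    have h6 : Nat.card N * N.index = Nat.card N * Nat.card P := by rw [h5, hcardmul]
    exact Nat.eq_of_mul_eq_mul_left Nat.card_pos h6
  have hx2 : ∀ x : Γ, x ^ N.index ∈ N := fun x => pow_index_mem N x
  have hidx : ∃ j, N.index = 2 ^ j := by
    rw [hNidx]
    exact (IsPGroup.iff_card.1 P.isPGroup')
  obtain ⟨j, hj⟩ := hidx
  refine ⟨N.map Γ.subtype, map_subtype_le _, fun x => ?_, ?_, ?_, ?_⟩
  · constructor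
    · rintro ⟨y, hy, rfl⟩
      refine ⟨y.2, ?_⟩
      have h5 : orderOf (⟨y, hy⟩ : N) ∣ Nat.card N := orderOf_dvd_natCard _
      rw [Subgroup.orderOf_mk] at h5
      rw [Subgroup.subtype_apply, Subgroup.orderOf_coe]
      exact Odd.of_dvd_nat hodd h5
    · rintro ⟨hx, hxo⟩
      have h5 : (⟨x, hx⟩ : Γ) ^ 2 ^ j ∈ N := by rw [← hj]; exact hx2 _
      refine ⟨⟨x, hx⟩, mem_of_pow (m := orderOf x) hxo ?_ h5, rfl⟩
      apply Subtype.ext
      rw [Subgroup.coe_pow]
      exact pow_orderOf_eq_one x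
  · refine odd_abel h2 (Nat.card N) (N.map Γ.subtype) (fin_map _ _)
      (Nat.card_congr (N.equivMapOfInjective Γ.subtype Γ.subtype_injective).toEquiv).symm hodd ?_
    intro h
    apply hn0
    obtain ⟨c, hc⟩ := card_subgroup_dvd_card N
    rw [hc, Nat.cast_mul, h, zero_mul]
  · rw [← Nat.card_congr (N.equivMapOfInjective Γ.subtype Γ.subtype_injective).toEquiv]
    exact hodd
  · intro x hx
    refine ⟨j, ⟨x, hx⟩ ^ 2 ^ j, by rw [← hj]; exact hx2 _, rfl⟩

end Cfsg.Agent.H550.RX
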